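import Groth.Agent.Lib.Omega12.Universal
import Groth.Agent.Lib.Omega12.Compat
import Groth.Agent.Lib.Omega26.Basic
import Groth.Agent.Lib.Omega12.Cokernel
import Groth.Agent.Lib.Omega12.SmoothRank
import Groth.Agent.Lib.DetSES2.Exist
import Groth.Agent.Lib.DetSES2.Free
import Groth.Agent.Lib.ExtFil4.Uniq

/-!
# Differentials on affine pieces; the differentials of a product
-/

set_option autoImplicit false
set_option linter.style.haveILetI false
set_option linter.unusedSectionVars false
set_option maxHeartbeats 1000000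
set_option backward.isDefEq.respectTransparency false
set_option backward.isDefEq.respectTransparency.types false

universe u

open CategoryTheory CategoryTheory.Limits AlgebraicGeometry TopologicalSpace Opposite

noncomputable section

namespace Groth.Agent.SymSq10

variable {X Y : Scheme.{u}} (f : X ⟶ Y) [QuasiSeparated f] {U : X.Opens} (hU : IsAffineOpen U) {V : Y.Opens}
  (hV : IsAffineOpen V) (h : U ≤ f ⁻¹ᵁ V)
include hU hV h

theorem span_dSect : Submodule.span Γ(X, U) (Set.range (OmegaSh.dSect f U)) = (⊤ : Submodule Γ(X, U) Γ(Omega.sheaf f, U)) := by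
  letI := (f.appLE V U h).hom.toAlgebra
  let e := Omega26.sectEquiv f hU hV h
  have he : ∀ b, e (KaehlerDifferential.D Γ(Y, V) Γ(X, U) b) = OmegaSh.dSect f U b := fun b => OmAff.toSect_d f V U h b
  rw [show Set.range (OmegaSh.dSect f U) = e.toLinearMap '' Set.range (KaehlerDifferential.D Γ(Y, V) Γ(X, U)) by
      rw [← Set.range_comp]; exact congrArg Set.range (funext fun b => (he b).symm),
    Submodule.span_image, KaehlerDifferential.span_range_derivation, Submodule.map_top, LinearMap.range_eq_top]
  exact e.surjective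

/-- A derivation into a module factors through the differentials. -/
theorem exists_of_der {K : Type u} [CommRing K] (χ : Γ(X, U) →+* K) (D : Γ(X, U) →+ K)
    (hmul : ∀ a b, D (a * b) = χ a * D b + χ b * D a) (hconst : ∀ c, D (f.appLE V U h c) = 0) :
    ∃ ℓ : Γ(Omega.sheaf f, U) →+ K, (∀ (r : Γ(X, U)) m, ℓ (r • m) = χ r * ℓ m) ∧
      ∀ b, ℓ (OmegaSh.dSect f U b) = D b := by
  letI := (f.appLE V U h).hom.toAlgebra
  letI := χ.toAlgebra
  letI := (χ.comp (f.appLE V U h).hom).toAlgebra
  haveI : IsScalarTower Γ(Y, V) Γ(X, U) K := IsScalarTower.of_algebraMap_eq' rfl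
  let D' : Derivation Γ(Y, V) Γ(X, U) K :=
    { toFun := D
      map_add' := map_add D
      map_smul' := fun c a => by
        show D (f.appLE V U h c * a) = χ (f.appLE V U h c) * D a
        rw [hmul, hconst, mul_zero, add_zero]
      map_one_eq_zero' := by
        show D 1 = 0
        have h1 := hmul (1 : Γ(X, U)) 1
        rw [show χ (1 : Γ(X, U)) = 1 from map_one χ, one_mul, one_mul] at h1
        exact left_eq_add.1 h1
      leibniz' := fun a b => hmul a b }
  let e := Omega26.sectEquiv f hU hV h
  refine ⟨(D'.liftKaehlerDifferential.toAddMonoidHom.comp e.symm.toAddMonoidHom), fun r m => ?_, fun b => ?_⟩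
  · show D'.liftKaehlerDifferential (e.symm (r • m)) = χ r * D'.liftKaehlerDifferential (e.symm m)
    rw [map_smul, map_smul]
    rfl
  · show D'.liftKaehlerDifferential (e.symm (OmegaSh.dSect f U b)) = D b
    rw [show OmegaSh.dSect f U b = e (KaehlerDifferential.D Γ(Y, V) Γ(X, U) b) from (OmAff.toSect_d f V U h b).symm,
      LinearEquiv.symm_apply_apply, Derivation.liftKaehlerDifferential_comp_D]
    rfl

end Groth.Agent.SymSq10

namespace Groth.Agent.SymSq10

/-- The determinant of the differentials of a product of two families of curves. -/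
theorem isExtPow_omega_sq {C T : Scheme.{u}} (f : C ⟶ T) [IsSeparated f] [SmoothOfRelativeDimension 1 f] :
    ExtPow.IsExtPow 2 (Omega.sheaf (pullback.fst f f ≫ f))
      (CohB1.tensorMod ((Scheme.Modules.pullback (pullback.fst f f)).obj (Omega.sheaf f))
        ((Scheme.Modules.pullback (pullback.snd f f)).obj (Omega.sheaf f))) := by
  let p := pullback.fst f f
  let q := pullback.snd f f
  let k := p ≫ f
  have wq : q ≫ f = k := pullback.condition.symm
  have hu := Omega12.isUniversal_dOmega (f := f)
  have huk := Omega12.isUniversal_dOmega (f := k)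
  obtain ⟨c₁, hc₁, -⟩ := Omega12.existsUnique_diffCompat (h := p) (b := 𝟙 T) (Category.comp_id k) hu (OmegaSh.dOmega k)
  obtain ⟨c₂, hc₂, -⟩ := Omega12.existsUnique_diffCompat (h := q) (b := 𝟙 T) ((Category.comp_id k).trans wq.symm) hu
    (OmegaSh.dOmega k)
  haveI := Omega12.isIso_coprodDesc (g := f) (a := f) (rfl : p ≫ f = k) wq (IsPullback.of_hasPullback f f) hu hu huk
    c₁ hc₁ c₂ hc₂
  let A := (Scheme.Modules.pullback p).obj (Omega.sheaf f)
  let B := (Scheme.Modules.pullback q).obj (Omega.sheaf f)
  let e := asIso (coprod.desc c₁ c₂)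
  let S : ShortComplex (pullback f f).Modules :=
    ShortComplex.mk c₁ (e.inv ≫ coprod.desc (0 : A ⟶ B) (𝟙 B)) (by
      rw [← coprod.inl_desc c₁ c₂, Category.assoc, show coprod.desc c₁ c₂ = e.hom from rfl, e.hom_inv_id_assoc,
        coprod.inl_desc])
  have sp : S.Splitting :=
    { r := e.inv ≫ coprod.desc (𝟙 A) (0 : B ⟶ A)
      s := c₂
      f_r := by
        show c₁ ≫ e.inv ≫ _ = _
        rw [← coprod.inl_desc c₁ c₂, Category.assoc, show coprod.desc c₁ c₂ = e.hom from rfl, e.hom_inv_id_assoc,
          coprod.inl_desc]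
      s_g := by
        show c₂ ≫ e.inv ≫ _ = _
        rw [← coprod.inr_desc c₁ c₂, Category.assoc, show coprod.desc c₁ c₂ = e.hom from rfl, e.hom_inv_id_assoc,
          coprod.inr_desc]
      id := by
        show (e.inv ≫ coprod.desc (𝟙 A) 0) ≫ c₁ + (e.inv ≫ coprod.desc 0 (𝟙 B)) ≫ c₂ = 𝟙 _
        rw [← cancel_epi e.hom, Preadditive.comp_add, Category.assoc, Category.assoc, e.hom_inv_id_assoc,
          e.hom_inv_id_assoc, Category.comp_id]
        apply coprod.hom_ext
        · simp only [Preadditive.comp_add, coprod.inl_desc_assoc, zero_comp, add_zero, Category.id_comp]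
          exact (Category.id_comp _).trans (coprod.inl_desc c₁ c₂).symm
        · simp only [Preadditive.comp_add, coprod.inr_desc_assoc, zero_comp, zero_add, Category.id_comp]
          exact (Category.id_comp _).trans (coprod.inr_desc c₁ c₂).symm }
  have hΩ : FlatMod.IsFinLocFreeOfRank 1 (Omega.sheaf f) :=
    Omega12.isFinLocFreeOfRank_receptacle_of_smooth f hu 1
  have hinv := (M2.isInvertible_iff_isFinLocFreeOfRank_one _).2 hΩ
  have hA := PicLoc.isInvertible_pullback p hinv
  have hB := PicLoc.isInvertible_pullback q hinv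
  have hA1 : FlatMod.IsFinLocFreeOfRank 1 S.X₁ := (M2.isInvertible_iff_isFinLocFreeOfRank_one _).1 hA
  have hB1 : FlatMod.IsFinLocFreeOfRank 1 S.X₃ := (M2.isInvertible_iff_isFinLocFreeOfRank_one _).1 hB
  have h2 : FlatMod.IsFinLocFree S.X₂ := fun x => by
    obtain ⟨U, hxU, hU⟩ :=
      DetSES2.isFinLocFreeOfRank_middle S sp.shortExact (Omega26.isQCoh k) hA1 hB1 x
    exact ⟨U, 1 + 1, hxU, hU⟩
  exact DetSES2.isExtPow_tensor_middle S sp.shortExact (show 1 + 1 = 2 from rfl) hA1 h2 hB1
    (ExtFil4.isExtPow_one _) (ExtFil4.isExtPow_one _) (M2.isFinLocFree_of_isInvertible hA)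
    (M2.isFinLocFree_of_isInvertible hB)

end Groth.Agent.SymSq10

end
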