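import Groth.Agent.Lib.SymSq10.Pull
import Groth.Agent.Lib.SymSq10.OmegaGen
import Groth.Agent.Lib.Wedge2.Top

/-!
# Charts of a double quotient; generators of invertible modules on affine opens
-/

set_option autoImplicit false
set_option linter.style.haveILetI false
set_option linter.unusedSectionVars false
set_option maxHeartbeats 1000000
set_option backward.isDefEq.respectTransparency false
set_option backward.isDefEq.respectTransparency.types false

universe u

open CategoryTheory CategoryTheory.Limits AlgebraicGeometry TopologicalSpace Opposite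

noncomputable section

namespace Groth.Agent.SymSq10

theorem isGen_of_span {X : Scheme.{u}} (M : X.Modules) [Coh.IsQCoh M] {U : X.Opens} (hU : IsAffineOpen U)
    (g : Γ(M, U)) (hs : ∀ y : Γ(M, U), ∃ c : Γ(X, U), y = c • g) (h0 : ∀ c : Γ(X, U), c • g = 0 → c = 0) :
    Twist.IsGen M U g := by
  intro V hV
  have hl : Twist.LocGen g (1 : Γ(X, U)) := ⟨fun y => by
      obtain ⟨c, hc⟩ := hs y
      exact ⟨0, c, by rw [pow_zero, one_smul, hc]⟩,
    fun c hc => ⟨0, by rw [pow_zero, one_mul, h0 c hc]⟩⟩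
  have hb : X.basicOpen (1 : Γ(X, U)) = U := Scheme.basicOpen_of_isUnit _ isUnit_one
  have hVb : V ≤ X.basicOpen (1 : Γ(X, U)) := hb.symm ▸ hV
  have h := Twist.isGen_of_locGen M hU hl V hVb
  simpa only [M1.mres_mres] using h

/-- A spanning section of an invertible module on an integral scheme generates. -/
theorem isGen_of_spanning {X : Scheme.{u}} [IsIntegral X] {M : X.Modules} (hM : PicF.IsInvertible M) {U : X.Opens}
    (hU : IsAffineOpen U) [Nonempty U] (g : Γ(M, U)) (hs : ∀ y : Γ(M, U), ∃ c : Γ(X, U), y = c • g) :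
    Twist.IsGen M U g := by
  haveI : Coh.IsQCoh M := Twist.isQCoh_of_isInvertible hM
  refine isGen_of_span M hU g hs fun c hc => ?_
  obtain ⟨z, hz⟩ := ‹Nonempty U›
  obtain ⟨D, b, hzD, hb⟩ := ProjUP.exists_isGen_of_invertible hM z
  obtain ⟨h, hle, hzh⟩ := hU.exists_basicOpen_le (V := D) ⟨z, hzD⟩ hz
  haveI : Nonempty (X.basicOpen h : X.Opens) := ⟨⟨z, hzh⟩⟩
  have hb' : Twist.IsGen M (X.basicOpen h) (M1.mres M hle b) := hb.mres hle
  obtain ⟨n, t₀, ht⟩ := M1.exists_pow_smul_eq_res_affine M hU h (M1.mres M hle b)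
  obtain ⟨e, he⟩ := (hb' (X.basicOpen h) le_rfl).2 (M1.mres M (X.basicOpen_le h) g)
  simp only [M1.mres_id] at he
  have he0 : e ≠ 0 := fun H => by
    rw [H, zero_smul] at he
    obtain ⟨c', hc'⟩ := hs t₀
    have h1 : M1.mres M (X.basicOpen_le h) t₀ = 0 := by rw [hc', M1.mres_smul, ← he, smul_zero]
    have hu : IsUnit (M1.ores (X.basicOpen_le h) h ^ n) := (X.toRingedSpace.isUnit_res_basicOpen h).pow n
    have h2 : (M1.ores (X.basicOpen_le h) h ^ n) • M1.mres M hle b = 0 := ht.symm.trans h1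
    have h3 := (hb' (X.basicOpen h) le_rfl).1 (show (M1.ores (X.basicOpen_le h) h ^ n) •
      M1.mres M le_rfl (M1.mres M hle b) = (0 : Γ(X, X.basicOpen h)) • M1.mres M le_rfl (M1.mres M hle b) by
        rw [M1.mres_id, h2, zero_smul])
    exact hu.ne_zero h3
  have h4 : (M1.ores (X.basicOpen_le h) c * e) • M1.mres M hle b = (0 : Γ(X, X.basicOpen h)) • M1.mres M hle b := by
    rw [mul_smul, he, ← M1.mres_smul, hc, zero_smul, map_zero]
  have h5 := (hb' (X.basicOpen h) le_rfl).1 (show (M1.ores (X.basicOpen_le h) c * e) •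
    M1.mres M le_rfl (M1.mres M hle b) = (0 : Γ(X, X.basicOpen h)) • M1.mres M le_rfl (M1.mres M hle b) by
      rw [M1.mres_id]; exact h4)
  exact map_injective_of_isIntegral X (homOfLE (X.basicOpen_le h))
    (((mul_eq_zero.1 h5).resolve_right he0).trans (map_zero _).symm)

variable {X S : Scheme.{u}} {π : X ⟶ S} {τ : X ⟶ X}

/-- A chart: over it the cover is generated by one anti-invariant function. -/
structure Chart (d : Dbl π τ) (I : X.IdealSheafData) [IsAffineHom π] (D : S.Opens) : Type u where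
  aff : IsAffineOpen D
  t : Γ(X, π ⁻¹ᵁ D)
  anti : tau d.inv D t = -t
  ne : t ≠ 0
  dec : ∀ b, ∃ r u : Γ(S, D), b = π.app D r + π.app D u * t
  ideal : I.ideal ⟨π ⁻¹ᵁ D, aff.preimage π⟩ = Ideal.span {t}

variable {d : Dbl π τ} {I : X.IdealSheafData} [IsAffineHom π] [IsIntegral X]

theorem chart_of_gen (hfix : IsFixIdeal d I) {O D : S.Opens} (hD : IsAffineOpen D) (hle : D ≤ O) [Nonempty D]
    {e : Γ(E d, O)} (he : Twist.IsGen (E d) O e) :
    ∃ c : Chart d I D, c.t = εb d D (M1.mres (E d) hle e) := by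
  obtain ⟨x, hx⟩ := ‹Nonempty D›
  obtain ⟨z, rfl⟩ := d.surj x
  haveI : Nonempty (π ⁻¹ᵁ D : X.Opens) := ⟨⟨z, hx⟩⟩
  obtain ⟨v, hv⟩ := d.two D
  let e' : Γ(E d, D) := M1.mres (E d) hle e
  have hv' : π.app D v * 2 = 1 := by rw [← map_ofNat (π.app D).hom 2, ← map_mul, hv, map_one]
  have key : ∀ b, tau d.inv D b = -b → ∃ u : Γ(S, D), b = π.app D u * εb d D e' := fun b hb => by
    obtain ⟨y, rfl⟩ := exists_ει d D hb
    obtain ⟨u, hu⟩ := ((he.mres hle) D le_rfl).2 y
    simp only [M1.mres_id] at hu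
    exact ⟨u, by rw [← hu, Scheme.Modules.Hom.app_smul]; rfl⟩
  refine ⟨⟨hD, εb d D e', tau_ει d D e', fun H => ?_, fun b => ?_, ?_⟩, rfl⟩
  · have h1 : e' = 0 := ει_injective d D (H.trans (map_zero _).symm)
    have h2 := ((he.mres hle) D le_rfl).1 (show (1 : Γ(S, D)) • M1.mres (E d) le_rfl e' =
      (0 : Γ(S, D)) • M1.mres (E d) le_rfl e' by rw [M1.mres_id, h1, smul_zero, smul_zero])
    have h3 := congrArg (π.app D) h2
    rw [map_one, map_zero] at h3
    exact one_ne_zero h3
  · obtain ⟨r, hr⟩ := d.fixed D (π.app D v * (b + tau d.inv D b)) (by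
      rw [map_mul, map_add, tau_app, tau_tau d.inv d.invol, add_comm])
    obtain ⟨u, hu⟩ := key (π.app D v * (b - tau d.inv D b)) (by
      rw [map_mul, map_sub, tau_app, tau_tau d.inv d.invol]; ring)
    exact ⟨r, u, by rw [hr, ← hu]; linear_combination (-b) * hv'⟩
  · rw [hfix D hD]
    refine le_antisymm (Ideal.span_le.2 ?_) ?_
    · rintro _ ⟨b, rfl⟩
      obtain ⟨u, hu⟩ := key (b - tau d.inv D b) (by rw [map_sub, tau_tau d.inv d.invol, neg_sub])
      exact Ideal.mem_span_singleton'.2 ⟨π.app D u, hu.symm⟩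
    · rw [Ideal.span_le, Set.singleton_subset_iff]
      exact anti_mem_fixIdeal hv' (tau_app d.inv D v) (tau_ει d D e')

theorem Chart.dec_unique {D : S.Opens} [Nonempty (π ⁻¹ᵁ D : X.Opens)] (c : Chart d I D) {r u r' u' : Γ(S, D)}
    (h : π.app D r + π.app D u * c.t = π.app D r' + π.app D u' * c.t) : r = r' ∧ u = u' := by
  have h' := congrArg (tau d.inv D) h
  simp only [map_add, map_mul, tau_app, c.anti] at h'
  obtain ⟨v, hv⟩ := d.two D
  have hv' : π.app D v * 2 = 1 := by rw [← map_ofNat (π.app D).hom 2, ← map_mul, hv, map_one]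
  have hr : π.app D r = π.app D r' := by
    linear_combination (π.app D v) * h + (π.app D v) * h' - (π.app D r - π.app D r') * hv'
  refine ⟨d.inj D hr, d.inj D (mul_right_cancel₀ c.ne ?_)⟩
  linear_combination h - hr

theorem Chart.exists_sq {D : S.Opens} (c : Chart d I D) : ∃ s : Γ(S, D), π.app D s = c.t * c.t :=
  d.fixed D _ (by rw [map_mul, c.anti, neg_mul_neg])

end Groth.Agent.SymSq10

end
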