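import Groth.Agent.Lib.SymSq10.Pull
import Groth.Agent.Lib.HypSq10.Curve
import Groth.Agent.Lib.HypSq10.Surface
import Groth.Agent.Lib.Kunneth22.Shift
import Groth.Agent.Lib.AmpleFin18.PushEuler

/-!
# Cohomology on a quotient by an involution
-/

set_option autoImplicit false
set_option linter.style.haveILetI false
set_option linter.unusedSectionVars false
set_option maxHeartbeats 1000000
set_option backward.isDefEq.respectTransparency false
set_option backward.isDefEq.respectTransparency.types false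

universe u

open CategoryTheory CategoryTheory.Limits AlgebraicGeometry TopologicalSpace Opposite

noncomputable section

namespace Groth.Agent.SymSq10

open Groth.Agent.CurveCoh17 (hequiv hmap hmap_comp hmap_id hmap_zero)
open Groth.Agent.Abel10 (pc)
open Groth.Agent.HypSq10 (rep rep_inv cls_rep rep_mul chi hh Van isCoh_rep)

noncomputable local instance instLawCoh (Y : Scheme.{u}) : PicGrp.Law Y := M2.law Y

section General

variable {k : Type u} [Field k] {Y : Scheme.{u}} [Y.Over (Spec (CommRingCat.of k))]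

/-- Cohomology of a split sequence. -/
theorem nonempty_hh_prod {T : ShortComplex Y.Modules} (s : T.Splitting) (n : ℕ) :
    Nonempty (Coh.HH Y T.X₂ n ≃ₗ[k] Coh.HH Y T.X₁ n × Coh.HH Y T.X₃ n) := by
  refine ⟨LinearEquiv.ofLinear ((hmap k s.r n).prod (hmap k T.g n))
    ((hmap k T.f n).coprod (hmap k s.s n)) ?_ ?_⟩
  · refine LinearMap.ext fun ⟨a, b⟩ => Prod.ext ?_ ?_
    · show hmap k s.r n (hmap k T.f n a + hmap k s.s n b) = a
      rw [map_add, ← hmap_comp, ← hmap_comp, s.f_r, s.s_r, hmap_id, hmap_zero, add_zero]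
    · show hmap k T.g n (hmap k T.f n a + hmap k s.s n b) = b
      rw [map_add, ← hmap_comp, ← hmap_comp, T.zero, s.s_g, hmap_id, hmap_zero, zero_add]
  · refine LinearMap.ext fun x => ?_
    show hmap k T.f n (hmap k s.r n x) + hmap k s.s n (hmap k T.g n x) = x
    rw [← hmap_comp, ← hmap_comp, ← LinearMap.add_apply, ← Kunneth22.hmap_add'', s.id, hmap_id]

variable [IsProper (Y ↘ Spec (CommRingCat.of k))]

theorem finite_hh (c : PicLoc.PicSet Y) (n : ℕ) : Module.Finite k (Coh.HH Y (rep c) n) :=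
  haveI : IsNoetherian Y := CohFound.isNoetherian_of_isProper (Y ↘ Spec (CommRingCat.of k))
  CohFound.finite_HH_of_isProper _ (isCoh_rep c) n

variable (hd : topologicalKrullDim Y ≤ ((2 : ℕ) : WithBot ℕ∞))
include k hd

theorem van_of_lt (c : PicLoc.PicSet Y) {n : ℕ} (hn : 2 < n) : Van n c := by
  haveI : IsNoetherian Y := CohFound.isNoetherian_of_isProper (Y ↘ Spec (CommRingCat.of k))
  exact NumPoly18.subsingleton_HH_of_support (k := k) (isCoh_rep c) (NumPoly18.dim_support_le hd _) hn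

theorem chi_eq_hh2 (c : PicLoc.PicSet Y) :
    chi k c = (hh k 0 c : ℤ) - hh k 1 c + hh k 2 c := by
  rw [chi, Curv2.euler, finsum_eq_finsetSum_of_support_subset (s := Finset.range 3)]
  · simp [Finset.sum_range_succ, hh]; ring
  · intro i hi
    simp only [Finset.coe_range, Set.mem_Iio]
    by_contra hlt
    haveI : Subsingleton (Coh.HH Y (rep c) i) := van_of_lt (k := k) hd c (show 2 < i by omega)
    refine hi ?_
    simp [Module.finrank_zero_of_subsingleton]

end General

section Dot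

variable (k : Type u) [Field k] {Y : Scheme.{u}} [Y.Over (Spec (CommRingCat.of k))]

/-- The intersection number of two classes on a surface. -/
def sdot (a b : PicLoc.PicSet Y) : ℤ := chi k (a * b) - chi k a - chi k b + chi k (1 : PicLoc.PicSet Y)

variable {k}

theorem ndot_eq' {A B : Y.Modules} (hA : PicF.IsInvertible A) (hB : PicF.IsInvertible B) :
    NumPoly18.dot k A B = (sdot k (PicGrp.cls A hA) (PicGrp.cls B hB) : ℚ) := by
  rw [NumPoly18.dot, NumPoly18.md_cons, NumPoly18.md_iso _ (M2.tensorLUnit A)]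
  simp only [show (fun _ : Fin 1 => B) = (Fin.cons B (fun i : Fin 0 => i.elim0) : Fin 1 → Y.Modules) from
    funext fun i => by fin_cases i; rfl, NumPoly18.md_cons, NumPoly18.md_zero_vars,
    CurveCoh17.euler_iso (M2.tensorLUnit B)]
  rw [sdot, AlgEquiv22.cls_tensor hA hB, ← HypSq10.euler_eq_chi, ← HypSq10.euler_eq_chi, ← HypSq10.euler_eq_chi,
    HypSq10.chi_one]
  push_cast
  ring

theorem sdot_comm (a b : PicLoc.PicSet Y) : sdot k a b = sdot k b a := by
  rw [sdot, sdot, mul_comm]; ring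

theorem sdot_one_left (b : PicLoc.PicSet Y) : sdot k 1 b = 0 := by
  rw [sdot, one_mul]; ring

theorem chi_mul' (a b : PicLoc.PicSet Y) :
    chi k (a * b) = sdot k a b + chi k a + chi k b - chi k (1 : PicLoc.PicSet Y) := by
  rw [sdot]; ring

variable [IsProper (Y ↘ Spec (CommRingCat.of k))] (hd : topologicalKrullDim Y ≤ ((2 : ℕ) : WithBot ℕ∞))
include hd

theorem intNum_eq' {A B : Y.Modules} (hA : PicF.IsInvertible A) (hB : PicF.IsInvertible B) :
    FGA.intNum k Y 2 ![A, B] (Coh.structureModule Y) = sdot k (PicGrp.cls A hA) (PicGrp.cls B hB) := by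
  have h := (NumPoly18.intNum2 hd hA hB).trans (ndot_eq' (k := k) hA hB)
  exact_mod_cast h

theorem sdot_mul (a a' b : PicLoc.PicSet Y) : sdot k (a * a') b = sdot k a b + sdot k a' b := by
  have h := NumPoly18.dot_tensor (k := k) hd (rep_inv a) (rep_inv a') (rep_inv b)
  rw [ndot_eq' (k := k) (M2.isInvertible_tensor (rep_inv a) (rep_inv a')) (rep_inv b), ndot_eq' (k := k) (rep_inv a) (rep_inv b),
    ndot_eq' (k := k) (rep_inv a') (rep_inv b), ← AlgEquiv22.cls_tensor (rep_inv a) (rep_inv a'), cls_rep, cls_rep, cls_rep] at h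
  exact_mod_cast h

end Dot

section Quot

variable {k : Type u} [Field k] {X S : Scheme.{u}} [X.Over (Spec (CommRingCat.of k))]
  [S.Over (Spec (CommRingCat.of k))] {π : X ⟶ S} {τ : X ⟶ X} {d : Dbl π τ} [IsIntegral X] [IsAffineHom π]
  {I : X.IdealSheafData} (hI : BlowUp.IsEffCartierIdeal I) (hfix : IsFixIdeal d I)
  (hk : π ≫ (S ↘ Spec (CommRingCat.of k)) = X ↘ Spec (CommRingCat.of k))

/-- The class of the anti-invariant part. -/
def eps : PicLoc.PicSet S := PicGrp.cls (E d) (isInvertible_E hI hfix)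

theorem pc_eps : pc π (eps hI hfix) = PicGrp.cls (ClSub.idealMod I) (M2.isInvertible_idealMod I hI) :=
  (PicGrp.pullHom_cls _ _ _ _).trans ((PicGrp.cls_eq_cls_iff _ _).2 (nonempty_pullback_E hI hfix))

include hI hfix in
/-- The split sequence of a class. -/
theorem exists_split (c : PicLoc.PicSet S) :
    ∃ T : ShortComplex S.Modules, Nonempty T.Splitting ∧ Nonempty (T.X₁ ≅ rep c) ∧
      Nonempty (T.X₃ ≅ rep (c * eps hI hfix)) ∧
      Nonempty (T.X₂ ≅ (Scheme.Modules.pushforward π).obj (rep (pc π c))) := by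
  obtain ⟨s⟩ := nonempty_splitting d
  have hM := rep_inv c
  obtain ⟨M', hM', ⟨e⟩⟩ := M2.exists_inverse hM
  refine ⟨_, ⟨s.map (M2.tensorR (rep c))⟩, ⟨M2.tensorLUnit _⟩, ?_, ?_⟩
  · refine (PicGrp.cls_eq_cls_iff (M2.isInvertible_tensor (isInvertible_E hI hfix) hM) (rep_inv _)).1 ?_
    rw [← AlgEquiv22.cls_tensor (isInvertible_E hI hfix) hM, cls_rep, cls_rep, mul_comm]
    rfl
  · have h3 : PicGrp.cls ((Scheme.Modules.pullback π).obj (rep c)) (PicLoc.isInvertible_pullback π hM) = pc π c := by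
      conv_rhs => rw [← cls_rep c]
      exact (PicGrp.pullHom_cls π _ (rep c) hM).symm
    obtain ⟨j⟩ := (PicGrp.cls_eq_cls_iff _ (rep_inv _)).1 (h3.trans (cls_rep _).symm)
    exact ⟨((Kunneth22.projIso π e).app (Coh.structureModule X)) ≪≫
      (Scheme.Modules.pushforward π).mapIso (M2.tensorLUnit _ ≪≫ j)⟩

include hI hfix hk

theorem nonempty_hh_equiv (c : PicLoc.PicSet S) (n : ℕ) :
    Nonempty (Coh.HH X (rep (pc π c)) n ≃ₗ[k] Coh.HH S (rep c) n × Coh.HH S (rep (c * eps hI hfix)) n) := by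
  obtain ⟨T, ⟨s⟩, ⟨e1⟩, ⟨e3⟩, ⟨e2⟩⟩ := exists_split hI hfix c
  obtain ⟨p⟩ := AmpleFin18.nonempty_HH_push (k := k) π hk (rep (pc π c))
    (Twist.isQCoh_of_isInvertible (rep_inv _)) n
  obtain ⟨q⟩ := nonempty_hh_prod (k := k) s n
  exact ⟨((p.symm.trans (hequiv k e2 n).symm).trans q).trans ((hequiv k e1 n).prodCongr (hequiv k e3 n))⟩

theorem van_of_pullback {c : PicLoc.PicSet S} {n : ℕ} (h : Van n (pc π c)) :
    Van n c ∧ Van n (c * eps hI hfix) := by
  obtain ⟨e⟩ := nonempty_hh_equiv (k := k) hI hfix hk c n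
  haveI : Subsingleton (Coh.HH X (rep (pc π c)) n) := h
  haveI : Subsingleton (Coh.HH S (rep c) n × Coh.HH S (rep (c * eps hI hfix)) n) := e.symm.toEquiv.subsingleton
  exact ⟨⟨fun a b => congrArg Prod.fst (Subsingleton.elim (a, 0) (b, 0) :
      (a, (0 : Coh.HH S (rep (c * eps hI hfix)) n)) = (b, 0))⟩,
    ⟨fun a b => congrArg Prod.snd (Subsingleton.elim (0, a) (0, b) :
      ((0 : Coh.HH S (rep c) n), a) = (0, b))⟩⟩

variable [IsProper (S ↘ Spec (CommRingCat.of k))]

theorem hh_pullback (c : PicLoc.PicSet S) (n : ℕ) :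
    hh k n (pc π c) = hh k n c + hh k n (c * eps hI hfix) := by
  haveI := finite_hh (k := k) c n
  haveI := finite_hh (k := k) (c * eps hI hfix) n
  exact (nonempty_hh_equiv (k := k) hI hfix hk c n).some.finrank_eq.trans Module.finrank_prod

variable [IsProper (X ↘ Spec (CommRingCat.of k))] (hdX : topologicalKrullDim X ≤ ((2 : ℕ) : WithBot ℕ∞))
  (hdS : topologicalKrullDim S ≤ ((2 : ℕ) : WithBot ℕ∞))
include hdX hdS

theorem chi_pullback (c : PicLoc.PicSet S) : chi k (pc π c) = chi k c + chi k (c * eps hI hfix) := by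
  rw [chi_eq_hh2 hdX, chi_eq_hh2 hdS, chi_eq_hh2 hdS, hh_pullback hI hfix hk, hh_pullback hI hfix hk,
    hh_pullback hI hfix hk]
  push_cast
  ring

/-- Intersection numbers double under pullback. -/
theorem sdot_pullback (a b : PicLoc.PicSet S) : sdot k (pc π a) (pc π b) = 2 * sdot k a b := by
  have h := chi_pullback hI hfix hk hdX hdS
  rw [sdot, ← map_mul, h, h, h, ← map_one (pc π), h, one_mul, chi_mul' (a * b), sdot_mul hdS a b,
    chi_mul' a (eps hI hfix), chi_mul' b (eps hI hfix), chi_mul' a b]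
  ring

/-- The Euler characteristic on the quotient. -/
theorem eight_mul_chi (c : PicLoc.PicSet S) :
    8 * chi k c = 4 * chi k (pc π c) - 2 * chi k (pc π (eps hI hfix)) + 2 * chi k (1 : PicLoc.PicSet X) +
      sdot k (pc π (eps hI hfix)) (pc π (eps hI hfix)) - 2 * sdot k (pc π c) (pc π (eps hI hfix)) := by
  have h := chi_pullback hI hfix hk hdX hdS
  have h1 := h 1
  rw [map_one, one_mul] at h1
  rw [sdot_pullback hI hfix hk hdX hdS, sdot_pullback hI hfix hk hdX hdS, h, h, h1,
    chi_mul' c (eps hI hfix), chi_mul' (eps hI hfix) (eps hI hfix)]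
  ring

end Quot

end Groth.Agent.SymSq10

end
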