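import Groth.Agent.Lib.SymSq10.Det
import Groth.Agent.Lib.VeryAmple11.ModHom
import Groth.Agent.Lib.CurveOm17.Glue
import Groth.Agent.Lib.CurveCoh17.Twist
import Groth.Agent.Lib.CurveCoh17.IdealPow

/-!
# The canonical module of a double quotient
-/

set_option autoImplicit false
set_option linter.style.haveILetI false
set_option linter.unusedSectionVars false
set_option maxHeartbeats 1000000
set_option backward.isDefEq.respectTransparency false
set_option backward.isDefEq.respectTransparency.types false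

universe u

open CategoryTheory CategoryTheory.Limits AlgebraicGeometry TopologicalSpace Opposite exteriorPower

noncomputable section

namespace Groth.Agent.SymSq10

theorem isFinLocFreeOfRank_omega {X Y : Scheme.{u}} (n : ℕ) (f : X ⟶ Y) [SmoothOfRelativeDimension n f] [QuasiSeparated f] :
    FlatMod.IsFinLocFreeOfRank n (Omega.sheaf f) := fun x => by
  obtain ⟨V, hV, U, hU, hx, e, hs⟩ :=
    SmoothOfRelativeDimension.exists_isStandardSmoothOfRelativeDimension (n := n) (f := f) x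
  exact Omega12.free_nbhd_of_chart f (Omega12.isUniversal_dOmega f) n x hV hU hx e hs

theorem exists_basis_of_isBas {X : Scheme.{u}} {M : X.Modules} {U D : X.Opens} (hUD : U ≤ D) {n : ℕ}
    {e : Fin n → Γ(M, D)} (he : P1Split.IsBas M D e) :
    ∃ b : Module.Basis (Fin n) Γ(X, U) Γ(M, U), ∀ i, b i = M1.mres M hUD (e i) := by
  let L : (Fin n → Γ(X, U)) →ₗ[Γ(X, U)] Γ(M, U) := Fintype.linearCombination Γ(X, U) fun i => M1.mres M hUD (e i)
  refine ⟨Module.Basis.ofEquivFun (LinearEquiv.ofBijective L (he U hUD)).symm, fun i => ?_⟩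
  classical
  rw [Module.Basis.coe_ofEquivFun]
  simp [L, Fintype.linearCombination_apply_single]

theorem εb_res {X S : Scheme.{u}} {π : X ⟶ S} {τ : X ⟶ X} (d : Dbl π τ) {U V : S.Opens} (h : V ≤ U)
    (e : Γ(E d, U)) : εb d V (M1.mres (E d) h e) = M1.ores (π.preimage_mono h) (εb d U e) :=
  M1.map_app_eq (ει d) h e

variable {k : Type u} [Field k] {X S : Scheme.{u}} [X.Over (Spec (CommRingCat.of k))]
  [S.Over (Spec (CommRingCat.of k))] [IsSeparated (X ↘ Spec (CommRingCat.of k))]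
  [IsSeparated (S ↘ Spec (CommRingCat.of k))] [IsIntegral X] {π : X ⟶ S} [IsAffineHom π]
  (α : Omega.sheaf (S ↘ Spec (CommRingCat.of k)) ⟶
    (Scheme.Modules.pushforward π).obj (Omega.sheaf (X ↘ Spec (CommRingCat.of k))))

/-- The second exterior power of the differential of a morphism on an affine open. -/
def wedgeMap (U : S.Opens) : ↥(⋀[Γ(S, U)]^2 Γ(Omega.sheaf (S ↘ Spec (CommRingCat.of k)), U)) →+
    ↥(⋀[Γ(X, π ⁻¹ᵁ U)]^2 Γ(Omega.sheaf (X ↘ Spec (CommRingCat.of k)), π ⁻¹ᵁ U)) :=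
  letI := (π.app U).hom.toAlgebra
  letI : Module Γ(S, U) Γ(Omega.sheaf (X ↘ Spec (CommRingCat.of k)), π ⁻¹ᵁ U) := Module.compHom _ (π.app U).hom
  haveI : IsScalarTower Γ(S, U) Γ(X, π ⁻¹ᵁ U) Γ(Omega.sheaf (X ↘ Spec (CommRingCat.of k)), π ⁻¹ᵁ U) :=
    IsScalarTower.of_algebraMap_smul fun _ _ => rfl
  (Wedge2.tau (B := Γ(X, π ⁻¹ᵁ U))
    ({ toFun := αs α U, map_add' := αs_add α U, map_smul' := fun c m => αs_smul α U c m } :
      Γ(Omega.sheaf (S ↘ Spec (CommRingCat.of k)), U) →ₗ[Γ(S, U)]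
        Γ(Omega.sheaf (X ↘ Spec (CommRingCat.of k)), π ⁻¹ᵁ U)) 2).toAddMonoidHom

theorem wedgeMap_ιMulti (U : S.Opens) (v : Fin 2 → Γ(Omega.sheaf (S ↘ Spec (CommRingCat.of k)), U)) :
    wedgeMap α U (ιMulti _ 2 v) = ιMulti _ 2 fun i => αs α U (v i) := by
  let := (π.app U).hom.toAlgebra
  let : Module Γ(S, U) Γ(Omega.sheaf (X ↘ Spec (CommRingCat.of k)), π ⁻¹ᵁ U) := Module.compHom _ (π.app U).hom
  haveI : IsScalarTower Γ(S, U) Γ(X, π ⁻¹ᵁ U) Γ(Omega.sheaf (X ↘ Spec (CommRingCat.of k)), π ⁻¹ᵁ U) :=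
    IsScalarTower.of_algebraMap_smul fun _ _ => rfl
  exact Wedge2.tau_ιMulti _ v

theorem wedgeMap_smul (U : S.Opens) (r : Γ(S, U))
    (x : ↥(⋀[Γ(S, U)]^2 Γ(Omega.sheaf (S ↘ Spec (CommRingCat.of k)), U))) :
    wedgeMap α U (r • x) = π.app U r • wedgeMap α U x := by
  have hx : x ∈ Submodule.span Γ(S, U) (Set.range (ιMulti Γ(S, U) 2)) := by
    rw [exteriorPower.ιMulti_span]; trivial
  induction hx using Submodule.span_induction generalizing r with
  | mem y hy =>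
    obtain ⟨v, rfl⟩ := hy
    have e : r • ιMulti Γ(S, U) 2 v = ιMulti Γ(S, U) 2 (Function.update v 0 (r • v 0)) := by
      rw [AlternatingMap.map_update_smul, Function.update_eq_self]
    rw [e, wedgeMap_ιMulti, wedgeMap_ιMulti]
    have e2 : (fun i => αs α U (Function.update v 0 (r • v 0) i)) =
        Function.update (fun i => αs α U (v i)) 0 (π.app U r • αs α U (v 0)) := by
      funext i
      rw [← αs_smul]
      exact Function.apply_update (fun _ => αs α U) v 0 (r • v 0) i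
    rw [e2, AlternatingMap.map_update_smul]
    congr 2
    exact Function.update_eq_self 0 (fun i => αs α U (v i))
  | zero => rw [smul_zero, map_zero, smul_zero]
  | add y y' _ _ hy hy' => rw [smul_add, map_add, map_add, smul_add, hy, hy']
  | smul c y _ hy => rw [smul_smul, hy, hy, map_mul, mul_smul]

variable {W : S.Modules} {P : X.Modules}

theorem exists_push
    (φS : ∀ U : S.affineOpens, Γ(W, U.1) ≃ₗ[Γ(S, U.1)]
      ↥(⋀[Γ(S, U.1)]^2 Γ(Omega.sheaf (S ↘ Spec (CommRingCat.of k)), U.1)))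
    (hφS : ∀ (U V : S.affineOpens) (h : V.1 ≤ U.1) (e : Fin 2 → Γ(Omega.sheaf (S ↘ Spec (CommRingCat.of k)), U.1)),
      M1.mres W h ((φS U).symm (ιMulti _ 2 e)) = (φS V).symm (ιMulti _ 2 fun j => M1.mres _ h (e j)))
    (φX : ∀ U : X.affineOpens, Γ(P, U.1) ≃ₗ[Γ(X, U.1)]
      ↥(⋀[Γ(X, U.1)]^2 Γ(Omega.sheaf (X ↘ Spec (CommRingCat.of k)), U.1)))
    (hφX : ∀ (U V : X.affineOpens) (h : V.1 ≤ U.1) (e : Fin 2 → Γ(Omega.sheaf (X ↘ Spec (CommRingCat.of k)), U.1)),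
      M1.mres P h ((φX U).symm (ιMulti _ 2 e)) = (φX V).symm (ιMulti _ 2 fun j => M1.mres _ h (e j))) :
    ∃ θ : (Scheme.Modules.pullback π).obj W ⟶ P, ∀ (U : S.Opens) (hU : IsAffineOpen U)
      (e : Fin 2 → Γ(Omega.sheaf (S ↘ Spec (CommRingCat.of k)), U)),
      θ.app (π ⁻¹ᵁ U) (M2.pullSec π W ((φS ⟨U, hU⟩).symm (ιMulti _ 2 e))) =
        (φX ⟨π ⁻¹ᵁ U, hU.preimage π⟩).symm (ιMulti _ 2 fun i => αs α U (e i)) := by
  let g : ∀ U : S.Opens, IsAffineOpen U → Γ(W, U) →+ Γ((Scheme.Modules.pushforward π).obj P, U) := fun U hU =>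
    ((φX ⟨π ⁻¹ᵁ U, hU.preimage π⟩).symm.toLinearMap.toAddMonoidHom).comp
      ((wedgeMap α U).comp (φS ⟨U, hU⟩).toLinearMap.toAddMonoidHom)
  have hsmul : ∀ (U : S.Opens) (hU : IsAffineOpen U) (r : Γ(S, U)) (m : Γ(W, U)), g U hU (r • m) = r • g U hU m := by
    intro U hU r m
    show (φX ⟨π ⁻¹ᵁ U, hU.preimage π⟩).symm (wedgeMap α U (φS ⟨U, hU⟩ (r • m))) =
      π.app U r • (φX ⟨π ⁻¹ᵁ U, hU.preimage π⟩).symm (wedgeMap α U (φS ⟨U, hU⟩ m))
    rw [map_smul, wedgeMap_smul, map_smul]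
  have hι : ∀ (U : S.Opens) (hU : IsAffineOpen U) (e : Fin 2 → Γ(Omega.sheaf (S ↘ Spec (CommRingCat.of k)), U)),
      g U hU ((φS ⟨U, hU⟩).symm (ιMulti _ 2 e)) =
        (φX ⟨π ⁻¹ᵁ U, hU.preimage π⟩).symm (ιMulti _ 2 fun i => αs α U (e i)) := by
    intro U hU e
    show (φX ⟨π ⁻¹ᵁ U, hU.preimage π⟩).symm (wedgeMap α U (φS ⟨U, hU⟩ _)) = _
    rw [LinearEquiv.apply_symm_apply, wedgeMap_ιMulti]
  obtain ⟨φ, hφ⟩ := VA11.exists_hom_of_affine W _ g hsmul fun {U V} hU hV h m => by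
    obtain ⟨x, rfl⟩ := (φS ⟨U, hU⟩).symm.surjective m
    have hx : x ∈ Submodule.span Γ(S, U) (Set.range (ιMulti Γ(S, U) 2)) := by
      rw [exteriorPower.ιMulti_span]; trivial
    induction hx using Submodule.span_induction with
    | mem y hy =>
      obtain ⟨v, rfl⟩ := hy
      rw [hι]
      erw [hφS ⟨U, hU⟩ ⟨V, hV⟩ h v]
      rw [hι]
      refine (hφX ⟨π ⁻¹ᵁ U, hU.preimage π⟩ ⟨π ⁻¹ᵁ V, hV.preimage π⟩ (π.preimage_mono h) _).trans ?_
      congr 2
      funext i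
      exact M1.map_app_eq α h (v i) |>.symm
    | zero => simp only [map_zero]
    | add y y' _ _ hy hy' => simp only [map_add, hy, hy']
    | smul c y _ hy =>
      rw [map_smul, hsmul, M1.mres_smul, M1.mres_smul, hsmul, hy]
  refine ⟨((Scheme.Modules.pullbackPushforwardAdjunction π).homEquiv _ _).symm φ, fun U hU e => ?_⟩
  rw [PullBC11.homEquiv_symm_pullSec]
  exact (hφ U hU _).trans (hι U hU e)

/-- The canonical module of the base pulls back to the one of the cover twisted by the fixed locus. -/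
theorem nonempty_pullback_extPow [IsIntegral S] {τ : X ⟶ X} {d : Dbl π τ}
    {I : X.IdealSheafData} (hI : BlowUp.IsEffCartierIdeal I) (hfix : IsFixIdeal d I)
    (hk : π ≫ (S ↘ Spec (CommRingCat.of k)) = X ↘ Spec (CommRingCat.of k))
    (hX : FlatMod.IsFinLocFreeOfRank 2 (Omega.sheaf (X ↘ Spec (CommRingCat.of k))))
    (hS : FlatMod.IsFinLocFreeOfRank 2 (Omega.sheaf (S ↘ Spec (CommRingCat.of k))))
    (hW : ExtPow.IsExtPow 2 (Omega.sheaf (S ↘ Spec (CommRingCat.of k))) W)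
    (hP : ExtPow.IsExtPow 2 (Omega.sheaf (X ↘ Spec (CommRingCat.of k))) P) :
    Nonempty ((Scheme.Modules.pullback π).obj W ≅ CohB1.tensorMod (ClSub.idealMod I) P) := by
  classical
  obtain ⟨α, hα', -⟩ := Omega12.isUniversal_dOmega (S ↘ Spec (CommRingCat.of k)) _
    (Omega12.pushDer (b := 𝟙 _) ((Category.comp_id _).trans hk.symm) (OmegaSh.dOmega (X ↘ Spec (CommRingCat.of k))))
  have hα : ∀ (D : S.Opens) (r : Γ(S, D)), αs α D (OmegaSh.dSect (S ↘ Spec (CommRingCat.of k)) D r) =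
      OmegaSh.dSect (X ↘ Spec (CommRingCat.of k)) (π ⁻¹ᵁ D) (π.app D r) := fun D r =>
    congrArg (fun δ : OmegaSh.Der (S ↘ Spec (CommRingCat.of k))
      ((Scheme.Modules.pushforward π).obj (Omega.sheaf (X ↘ Spec (CommRingCat.of k)))) => δ.app D r) hα'
  obtain ⟨φS, hφS⟩ := ExtFil4.exists_phi hW
  obtain ⟨φX, hφX⟩ := ExtFil4.exists_phi hP
  obtain ⟨θ, hθ⟩ := exists_push α φS hφS φX hφX
  have hWi : PicF.IsInvertible W := Wedge2.isInvertible_top hS hW
  have hPi : PicF.IsInvertible P := Wedge2.isInvertible_top hX hP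
  have hIi : PicF.IsInvertible (ClSub.idealMod I) := M2.isInvertible_idealMod _ hI
  let μ : CohB1.tensorMod (ClSub.idealMod I) P ⟶ P := CurveCoh17.twistIncl I P
  haveI : Mono μ := by
    haveI : Mono (M2.tensorMap (ClSub.idealModι I) (𝟙 P)) := (CurveCoh17.twistSES hPi I).mono_f
    exact mono_comp _ _
  have key : ∀ z : X, ∃ (U : X.Opens) (p : Γ((Scheme.Modules.pullback π).obj W, U))
      (q : Γ(CohB1.tensorMod (ClSub.idealMod I) P, U)), z ∈ U ∧ Twist.IsGen _ U p ∧ Twist.IsGen _ U q ∧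
        θ.app U p = μ.app U q := by
    intro z
    obtain ⟨O₁, w, hz₁, hw⟩ := P1Split.exists_isBas_nhd hS (π z)
    obtain ⟨O₂, η, hz₂, hη⟩ := ProjUP.exists_isGen_of_invertible (isInvertible_E hI hfix) (π z)
    obtain ⟨D, hD, hzD, hle⟩ := exists_isAffineOpen_mem_and_subset (U := O₁ ⊓ O₂) (x := π z) ⟨hz₁, hz₂⟩
    haveI : Nonempty (D : S.Opens) := ⟨⟨_, hzD⟩⟩
    obtain ⟨c, hc⟩ := chart_of_gen hfix hD (fun a ha => (hle ha).2) hη
    obtain ⟨e, he⟩ := exists_basis_of_isBas (fun a ha => (hle ha).1 : D ≤ O₁) hw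
    obtain ⟨s, hs⟩ := c.exists_sq
    obtain ⟨x₀, hx₀, hu⟩ : ∃ x₀ : Γ(S, D), π z ∈ S.basicOpen x₀ ∧ (x₀ = s ∨
        x₀ = e.repr (OmegaSh.dSect (S ↘ Spec (CommRingCat.of k)) D s) 0 ∨
        x₀ = e.repr (OmegaSh.dSect (S ↘ Spec (CommRingCat.of k)) D s) 1) := by
      rcases unimodular α hα hk c e hs hX z hzD with h | h | h
      exacts [⟨_, h, Or.inl rfl⟩, ⟨_, h, Or.inr (Or.inl rfl)⟩, ⟨_, h, Or.inr (Or.inr rfl)⟩]
    let D' : S.Opens := S.basicOpen x₀
    have hD' : IsAffineOpen D' := hD.basicOpen x₀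
    have hle' : D' ≤ D := S.basicOpen_le x₀
    haveI : Nonempty (D' : S.Opens) := ⟨⟨_, hx₀⟩⟩
    haveI : Nonempty (π ⁻¹ᵁ D' : X.Opens) := ⟨⟨z, hx₀⟩⟩
    obtain ⟨c', hc'⟩ := chart_of_gen hfix hD' (hle'.trans fun a ha => (hle ha).2) hη
    obtain ⟨e', he'⟩ := exists_basis_of_isBas (hle'.trans fun a ha => (hle ha).1 : D' ≤ O₁) hw
    have hct : c'.t = M1.ores (π.preimage_mono hle') c.t := by
      rw [hc', hc, ← εb_res d hle', M1.mres_mres]
    have hs' : π.app D' (M1.ores hle' s) = c'.t * c'.t := by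
      rw [hct, ← map_mul, ← hs]
      exact ConcreteCategory.congr_hom (π.naturality (homOfLE hle').op) s
    have hrepr : ∀ i, e'.repr (OmegaSh.dSect (S ↘ Spec (CommRingCat.of k)) D' (M1.ores hle' s)) i =
        M1.ores hle' (e.repr (OmegaSh.dSect (S ↘ Spec (CommRingCat.of k)) D s) i) := by
      have hsum : OmegaSh.dSect (S ↘ Spec (CommRingCat.of k)) D' (M1.ores hle' s) =
          e'.equivFun.symm fun i => M1.ores hle' (e.repr (OmegaSh.dSect (S ↘ Spec (CommRingCat.of k)) D s) i) := by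
        rw [Module.Basis.equivFun_symm_apply]
        refine (OmegaSh.dSect_map (S ↘ Spec (CommRingCat.of k)) hle' s).trans ?_
        conv_lhs => rw [← e.sum_repr (OmegaSh.dSect (S ↘ Spec (CommRingCat.of k)) D s)]
        show M1.mres _ hle' _ = _
        rw [map_sum]
        refine Finset.sum_congr rfl fun i _ => ?_
        rw [M1.mres_smul, he, he']; erw [M1.mres_mres]; rfl
      intro i
      rw [hsum, ← Module.Basis.equivFun_apply, LinearEquiv.apply_symm_apply]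
    have hunit : IsUnit (M1.ores hle' x₀) := S.toRingedSpace.isUnit_res_basicOpen x₀
    obtain ⟨γ, hγs, hγ⟩ := exists_wedge_gen α hα c' e' hs' (by
      rcases hu with rfl | rfl | rfl
      · exact Or.inl hunit
      · rw [hrepr 0]; exact Or.inr (Or.inl hunit)
      · rw [hrepr 1]; exact Or.inr (Or.inr hunit))
    let U : X.Opens := π ⁻¹ᵁ D'
    have hU : IsAffineOpen U := hD'.preimage π
    haveI : Nonempty U := ⟨⟨z, hx₀⟩⟩
    obtain ⟨i, hi⟩ : ∃ i : Γ(ClSub.idealMod I, U), M2.idealIncl I i = c'.t := by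
      have h : c'.t ∈ (I.ideal ⟨U, hU⟩ : Set Γ(X, U)) := by
        rw [SetLike.mem_coe, c'.ideal]; exact Ideal.mem_span_singleton_self _
      rw [← M2.range_idealIncl I ⟨U, hU⟩] at h
      exact h
    have hgi : Twist.IsGen (ClSub.idealMod I) U i := isGen_of_spanning hIi hU i fun y => by
      have h : M2.idealIncl I y ∈ (I.ideal ⟨U, hU⟩ : Set Γ(X, U)) := by
        rw [← M2.range_idealIncl I ⟨U, hU⟩]; exact ⟨y, rfl⟩
      rw [SetLike.mem_coe, c'.ideal, Ideal.mem_span_singleton'] at h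
      obtain ⟨r, hr⟩ := h
      exact ⟨r, M2.idealIncl_injective I U (by rw [M2.idealIncl_smul, hi, hr])⟩
    have hgP : Twist.IsGen P U ((φX ⟨U, hU⟩).symm γ) := isGen_of_spanning hPi hU _ fun y => by
      obtain ⟨r, hr⟩ := hγs (φX ⟨U, hU⟩ y)
      exact ⟨r, (φX ⟨U, hU⟩).injective (by rw [map_smul, LinearEquiv.apply_symm_apply, hr])⟩
    have hgW : Twist.IsGen W D' ((φS ⟨D', hD'⟩).symm (ιMulti _ 2 e')) := isGen_of_spanning hWi hD' _ fun y => by
      obtain ⟨r, hr⟩ := wedge_span e'.span_eq (φS ⟨D', hD'⟩ y)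
      exact ⟨r, (φS ⟨D', hD'⟩).injective (by rw [map_smul, LinearEquiv.apply_symm_apply, hr])⟩
    refine ⟨U, _, _, hx₀, hgW.pullback π, CurveOm17.isGen_tsec hgi hgP, ?_⟩
    refine (hθ D' hD' e').trans ?_
    have h2 : (fun j => αs α D' (e' j)) = ![αs α D' (e' 0), αs α D' (e' 1)] := by
      funext j; fin_cases j <;> rfl
    rw [h2, hγ, map_smul]
    show _ = (M2.tensorMap (ClSub.idealModι I) (𝟙 P) ≫ (M2.tensorLUnit P).hom).app U _
    rw [Scheme.Modules.Hom.comp_app, CategoryTheory.comp_apply, M2.tensorMap_tsec, CurveCoh17.tensorLUnit_tsec]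
    exact congrArg (fun b : Γ(X, U) => b • (φX ⟨U, hU⟩).symm γ) hi.symm
  choose U p q hzU hp hq hθq using key
  have hcov : (⨆ z, U z) = ⊤ := top_le_iff.1 fun z _ => Opens.mem_iSup.2 ⟨z, hzU z⟩
  obtain ⟨iso, -⟩ := Twist.exists_iso_of_gen U hcov p q hp hq fun a b V ha hb t h => by
    refine M1.app_injective μ V ?_
    rw [Scheme.Modules.Hom.app_smul]
    erw [M1.map_app_eq μ hb, M1.map_app_eq μ ha, ← hθq, ← hθq, ← M1.map_app_eq θ hb, ← M1.map_app_eq θ ha]
    erw [h]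
    exact Scheme.Modules.Hom.app_smul θ t _
  exact ⟨iso⟩

end Groth.Agent.SymSq10

end
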