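import Mathlib

/-!
# An involution of a domain whose ideal of fixed locus is locally principal
-/

set_option autoImplicit false

universe u

namespace Groth.Agent.SymSq10

variable {B : Type u} [CommRing B] [IsDomain B] (s : B →+* B)

/-- The ideal of the fixed locus. -/
def fixIdeal : Ideal B := Ideal.span (Set.range fun b => b - s b)

variable {s}

theorem map_mem_fixIdeal (hs : ∀ b, s (s b) = b) {x : B} (hx : x ∈ fixIdeal s) : s x ∈ fixIdeal s := by
  have h : fixIdeal s ≤ (fixIdeal s).comap s := Ideal.span_le.2 (by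
    rintro _ ⟨b, rfl⟩
    show s (b - s b) ∈ fixIdeal s
    rw [map_sub, hs]
    exact (neg_sub b (s b)) ▸ (fixIdeal s).neg_mem (Ideal.subset_span ⟨b, rfl⟩))
  exact h hx

theorem exists_anti_of_prime (hs : ∀ b, s (s b) = b) (P : Ideal B) [P.IsPrime] {h₀ c : B} (hh₀ : h₀ ∉ P)
    (hc : c ∈ fixIdeal s) (hI : ∀ x ∈ fixIdeal s, ∃ y, h₀ * x = y * c) (hne : fixIdeal s ≠ ⊥) :
    ∃ a : B, s a = -a ∧ a ∈ fixIdeal s ∧ a ≠ 0 ∧ ∃ h, h ∉ P ∧ ∀ x ∈ fixIdeal s, ∃ y, h * x = y * a := by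
  have hh0 : h₀ ≠ 0 := fun h => hh₀ (h ▸ P.zero_mem)
  have hc0 : c ≠ 0 := fun h => hne (by
    rw [eq_bot_iff]
    intro x hx
    obtain ⟨y, hy⟩ := hI x hx
    rw [h, mul_zero] at hy
    exact (mul_eq_zero.1 hy).resolve_left hh0)
  by_contra hno
  push_neg at hno
  let T : Ideal B :=
    { carrier := {i | ∃ h, h ∉ P ∧ ∃ x ∈ P, h * i = x * c}
      zero_mem' := ⟨1, fun h => Ideal.IsPrime.ne_top inferInstance (P.eq_top_iff_one.2 h), 0, P.zero_mem, by simp⟩
      add_mem' := by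
        rintro i j ⟨h, hh, x, hx, e⟩ ⟨h', hh', x', hx', e'⟩
        exact ⟨h * h', fun H => (Ideal.IsPrime.mem_or_mem inferInstance H).elim hh hh', x * h' + x' * h,
          P.add_mem (P.mul_mem_right _ hx) (P.mul_mem_right _ hx'), by linear_combination h' * e + h * e'⟩
      smul_mem' := by
        rintro r i ⟨h, hh, x, hx, e⟩
        exact ⟨h, hh, r * x, P.mul_mem_left _ hx, by simp only [smul_eq_mul]; linear_combination r * e⟩ }
  have hT : fixIdeal s ≤ T := Ideal.span_le.2 (by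
    rintro _ ⟨b, rfl⟩
    have hanti : s (b - s b) = -(b - s b) := by rw [map_sub, hs, neg_sub]
    have hmem : b - s b ∈ fixIdeal s := Ideal.subset_span ⟨b, rfl⟩
    by_cases h0 : b - s b = 0
    · show b - s b ∈ T
      rw [h0]; exact T.zero_mem
    obtain ⟨y, hy⟩ := hI _ hmem
    refine ⟨h₀, hh₀, y, by_contra fun hyP => ?_, hy⟩
    obtain ⟨x, hx, hxn⟩ := hno _ hanti hmem h0 (y * h₀) (fun H => (Ideal.IsPrime.mem_or_mem inferInstance H).elim hyP hh₀)
    obtain ⟨z, hz⟩ := hI x hx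
    exact hxn (z * h₀) (by linear_combination y * hz - z * hy))
  obtain ⟨h, hh, x, hx, e⟩ := hT hc
  exact hh (mul_right_cancel₀ hc0 e ▸ hx)

/-- Near every prime an anti-invariant element generates, with an invariant denominator. -/
theorem exists_anti_gen (hs : ∀ b, s (s b) = b) (P : Ideal B) [P.IsPrime] {h₀ c : B} (hh₀ : h₀ ∉ P)
    (hc : c ∈ fixIdeal s) (hI : ∀ x ∈ fixIdeal s, ∃ y, h₀ * x = y * c) (hne : fixIdeal s ≠ ⊥) :
    ∃ a g : B, s a = -a ∧ a ∈ fixIdeal s ∧ a ≠ 0 ∧ s g = g ∧ g ∉ P ∧ ∀ x ∈ fixIdeal s, ∃ y, g * x = y * a := by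
  obtain ⟨a, ha, haI, ha0, h, hh, hgen⟩ := exists_anti_of_prime hs P hh₀ hc hI hne
  let J : Ideal B :=
    { carrier := {y | ∀ x ∈ fixIdeal s, ∃ z, y * x = z * a}
      zero_mem' := fun x _ => ⟨0, by simp⟩
      add_mem' := fun {y y'} hy hy' x hx => by
        obtain ⟨z, hz⟩ := hy x hx
        obtain ⟨z', hz'⟩ := hy' x hx
        exact ⟨z + z', by linear_combination hz + hz'⟩
      smul_mem' := fun r y hy x hx => by
        obtain ⟨z, hz⟩ := hy x hx
        exact ⟨r * z, by simp only [smul_eq_mul]; linear_combination r * hz⟩ }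
  have hJs : ∀ y ∈ J, s y ∈ J := fun y hy x hx => by
    obtain ⟨z, hz⟩ := hy (s x) (map_mem_fixIdeal hs hx)
    refine ⟨-s z, ?_⟩
    have := congrArg s hz
    rw [map_mul, map_mul, hs, ha] at this
    linear_combination this
  have h1 : ∃ y ∈ J, y ∉ P := ⟨h, hgen, hh⟩
  have h2 : ∃ y ∈ J, s y ∉ P := ⟨s h, hJs h hgen, by rwa [hs]⟩
  obtain ⟨y, hyJ, hy1, hy2⟩ : ∃ y ∈ J, y ∉ P ∧ s y ∉ P := by
    obtain ⟨y₁, hy₁, hp₁⟩ := h1
    obtain ⟨y₂, hy₂, hp₂⟩ := h2
    by_cases h₁ : s y₁ ∈ P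
    · by_cases h₂ : y₂ ∈ P
      · refine ⟨y₁ + y₂, J.add_mem hy₁ hy₂, fun H => hp₁ ((P.add_mem_iff_left h₂).1 H), fun H => hp₂ ?_⟩
        rw [map_add] at H
        exact (P.add_mem_iff_right h₁).1 H
      · exact ⟨y₂, hy₂, h₂, hp₂⟩
    · exact ⟨y₁, hy₁, hp₁, h₁⟩
  exact ⟨a, y * s y, ha, haI, ha0, by rw [map_mul, hs, mul_comm],
    fun H => (Ideal.IsPrime.mem_or_mem inferInstance H).elim hy1 hy2, fun x hx => J.mul_mem_right (s y) hyJ x hx⟩

theorem exists_invariant_coeff {a g b : B} (ha : s a = -a) (ha0 : a ≠ 0) (hg : s g = g) (hb : s b = -b)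
    {z : B} (hz : g * b = z * a) : s z = z := by
  have := congrArg s hz
  rw [map_mul, map_mul, hg, ha, hb] at this
  exact mul_right_cancel₀ ha0 (by linear_combination this + hz)

theorem anti_mem_fixIdeal {v b : B} (hv : v * 2 = 1) (hsv : s v = v) (hb : s b = -b) : b ∈ fixIdeal s := by
  have h : v * b - s (v * b) = b := by
    rw [map_mul, hsv, hb]
    linear_combination b * hv
  exact h ▸ Ideal.subset_span ⟨v * b, rfl⟩

end Groth.Agent.SymSq10
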