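import Groth.Agent.Lib.SymSq10.Alg
import Groth.Agent.Lib.IsQuot25.Basic
import Groth.Agent.Lib.ModM1.Exact
import Groth.Agent.Lib.ModM1.Local
import Groth.Agent.Lib.ModM1.Push
import Groth.Agent.Lib.Twist.Triv
import Groth.Prelude.Def_ClSub2

/-!
# Quotient by an involution: the splitting of the direct image of the structure sheaf
-/

set_option autoImplicit false
set_option linter.style.haveILetI false
set_option linter.unusedSectionVars false
set_option maxHeartbeats 1000000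
set_option backward.isDefEq.respectTransparency false
set_option backward.isDefEq.respectTransparency.types false

universe u

open CategoryTheory CategoryTheory.Limits AlgebraicGeometry TopologicalSpace Opposite

noncomputable section

namespace Groth.Agent.SymSq10

variable {X S : Scheme.{u}} {π : X ⟶ S} {τ : X ⟶ X}

theorem preimage_le (h : τ ≫ π = π) (U : S.Opens) : π ⁻¹ᵁ U ≤ τ ⁻¹ᵁ (π ⁻¹ᵁ U) := by
  rw [← Scheme.Hom.comp_preimage, h]

/-- The involution on sections over preimages. -/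
def tau (h : τ ≫ π = π) (U : S.Opens) : Γ(X, π ⁻¹ᵁ U) →+* Γ(X, π ⁻¹ᵁ U) :=
  (τ.appLE (π ⁻¹ᵁ U) (π ⁻¹ᵁ U) (preimage_le h U)).hom

theorem tau_app (h : τ ≫ π = π) (U : S.Opens) (r : Γ(S, U)) : tau h U (π.app U r) = π.app U r :=
  ConcreteCategory.congr_hom (by
    rw [π.app_eq_appLE, Scheme.Hom.appLE_comp_appLE, IsQuot25.appLE_eq h] :
    π.app U ≫ τ.appLE (π ⁻¹ᵁ U) (π ⁻¹ᵁ U) (preimage_le h U) = π.app U) r

theorem tau_map (h : τ ≫ π = π) {U V : S.Opens} (e : V ≤ U) (a : Γ(X, π ⁻¹ᵁ U)) :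
    tau h V (X.presheaf.map (homOfLE (π.preimage_mono e)).op a) =
      X.presheaf.map (homOfLE (π.preimage_mono e)).op (tau h U a) :=
  ConcreteCategory.congr_hom (by
    rw [Scheme.Hom.appLE_map, Scheme.Hom.map_appLE] :
    X.presheaf.map (homOfLE (π.preimage_mono e)).op ≫ τ.appLE (π ⁻¹ᵁ V) (π ⁻¹ᵁ V) (preimage_le h V) =
      τ.appLE (π ⁻¹ᵁ U) (π ⁻¹ᵁ U) (preimage_le h U) ≫ X.presheaf.map (homOfLE (π.preimage_mono e)).op) a

theorem tau_tau (h : τ ≫ π = π) (hτ : τ ≫ τ = 𝟙 X) (U : S.Opens) (a : Γ(X, π ⁻¹ᵁ U)) : tau h U (tau h U a) = a :=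
  ConcreteCategory.congr_hom (by
    rw [Scheme.Hom.appLE_comp_appLE, IsQuot25.appLE_eq hτ, Scheme.Hom.appLE, Scheme.Hom.id_app]
    exact (Category.id_comp _).trans (X.presheaf.map_id _) :
    τ.appLE (π ⁻¹ᵁ U) (π ⁻¹ᵁ U) (preimage_le h U) ≫ τ.appLE (π ⁻¹ᵁ U) (π ⁻¹ᵁ U) (preimage_le h U) = 𝟙 _) a

variable (π τ) in
/-- A quotient by an involution, with `2` invertible. -/
structure Dbl : Prop where
  affine : IsAffineHom π
  inv : τ ≫ π = π
  invol : τ ≫ τ = 𝟙 X
  inj : ∀ U : S.Opens, Function.Injective (π.app U).hom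
  fixed : ∀ (U : S.Opens) (a : Γ(X, π ⁻¹ᵁ U)), tau inv U a = a → a ∈ Set.range (π.app U).hom
  two : ∀ U : S.Opens, ∃ v : Γ(S, U), v * 2 = 1
  surj : Function.Surjective π

variable (π) in
/-- The direct image of the structure sheaf. -/
abbrev P : S.Modules := (Scheme.Modules.pushforward π).obj (Coh.structureModule X)

variable (d : Dbl π τ)
include d

/-- The involution of the direct image. -/
def θ : P π ⟶ P π :=
  ⟨PresheafOfModules.homMk
    { app := fun U => AddCommGrpCat.ofHom (tau d.inv U.unop).toAddMonoidHom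
      naturality := fun U V i => by
        ext a
        exact tau_map d.inv i.unop.le a }
    (fun U r a => (map_mul (tau d.inv U.unop) (π.app U.unop r) a).trans (by rw [tau_app]; rfl))⟩

theorem θ_app (U : S.Opens) (a : Γ(X, π ⁻¹ᵁ U)) : (θ d).app U a = tau d.inv U a := rfl

/-- The anti-invariant part. -/
abbrev E : S.Modules := kernel (θ d + 𝟙 (P π))

/-- Its inclusion. -/
abbrev ει : E d ⟶ P π := kernel.ι (θ d + 𝟙 (P π))

theorem ει_injective (U : S.Opens) : Function.Injective ((ει d).app U) := M1.app_injective (ει d) U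

theorem add_app (U : S.Opens) (a : Γ(X, π ⁻¹ᵁ U)) :
    ((θ d + 𝟙 (P π)).app U a : Γ(X, π ⁻¹ᵁ U)) = tau d.inv U a + a := rfl

theorem tau_ει (U : S.Opens) (e : Γ(E d, U)) :
    tau d.inv U ((ει d).app U e) = -((ει d).app U e : Γ(X, π ⁻¹ᵁ U)) := by
  have h : (θ d + 𝟙 (P π)).app U ((ει d).app U e) = 0 :=
    congrArg (fun φ : E d ⟶ P π => φ.app U e) (kernel.condition (θ d + 𝟙 (P π)))
  rw [add_app] at h
  exact eq_neg_of_add_eq_zero_left h

theorem exists_ει (U : S.Opens) {a : Γ(X, π ⁻¹ᵁ U)} (ha : tau d.inv U a = -a) :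
    ∃ e : Γ(E d, U), (ει d).app U e = a := by
  let K : ShortComplex S.Modules := ShortComplex.mk (ει d) (θ d + 𝟙 (P π)) (kernel.condition _)
  haveI : Mono K.f := inferInstanceAs (Mono (ει d))
  refine M1.sections_exact (S := K) (K.exact_of_f_is_kernel (kernelIsKernel _)) U a ?_
  show (θ d + 𝟙 (P π)).app U a = 0
  rw [add_app, ha, neg_add_cancel]

theorem isQCoh_P [IsAffineHom π] : Coh.IsQCoh (P π) := M1.isQCoh_push π (M1.isQCoh_structureModule X)

theorem isQCoh_E : Coh.IsQCoh (E d) :=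
  haveI := d.affine
  M1.isQCoh_kernel (isQCoh_P d) (isQCoh_P d) _

/-- The structure sheaf in the direct image. -/
abbrev η : Coh.structureModule S ⟶ P π := ClSub.unitToPush π

omit d in
theorem η_app (U : S.Opens) (r : Γ(S, U)) : ((η (π := π)).app U r : Γ(X, π ⁻¹ᵁ U)) = π.app U r := rfl

/-- The projection onto the anti-invariant part. -/
def γ : P π ⟶ E d := kernel.lift _ (𝟙 (P π) - θ d) (by
  refine Scheme.Modules.hom_ext _ _ fun U => ?_
  ext a
  let a' : Γ(X, π ⁻¹ᵁ U) := a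
  show (θ d + 𝟙 (P π)).app U (a' - tau d.inv U a') = 0
  rw [add_app, map_sub, tau_tau d.inv d.invol, sub_add_sub_cancel, sub_self])

theorem ει_γ_app (U : S.Opens) (a : Γ(X, π ⁻¹ᵁ U)) :
    @Eq Γ(X, π ⁻¹ᵁ U) ((ει d).app U ((γ d).app U a)) (a - tau d.inv U a) :=
  congrArg (fun φ : P π ⟶ P π => φ.app U a) (kernel.lift_ι (θ d + 𝟙 (P π)) (𝟙 (P π) - θ d) _)

theorem η_γ : η ≫ γ d = 0 := by
  refine Scheme.Modules.hom_ext _ _ fun U => ?_
  ext r
  refine ει_injective d U ?_
  show (ει d).app U ((γ d).app U (π.app U r : Γ(X, π ⁻¹ᵁ U))) = (ει d).app U 0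
  rw [ει_γ_app, tau_app, sub_self, map_zero]

theorem isIso_εγ : IsIso (ει d ≫ γ d) := by
  refine Twist.isIso_of_bijective_app _ fun U => ?_
  obtain ⟨v, hv⟩ := d.two U
  have key : ∀ e, (ει d ≫ γ d).app U e = (2 : Γ(S, U)) • e := fun e => ει_injective d U (by
    show (ει d).app U ((γ d).app U ((ει d).app U e)) = _
    rw [ει_γ_app, tau_ει, sub_neg_eq_add, Scheme.Modules.Hom.app_smul, two_smul])
  rw [show ⇑((ει d ≫ γ d).app U) = fun e => (2 : Γ(S, U)) • e from funext key]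
  refine Function.bijective_iff_has_inverse.2 ⟨fun e => v • e, fun e => ?_, fun e => ?_⟩
  · show v • ((2 : Γ(S, U)) • e) = e
    rw [smul_smul, hv, one_smul]
  · show (2 : Γ(S, U)) • (v • e) = e
    rw [smul_smul, mul_comm, hv, one_smul]

theorem isIso_lift : IsIso (kernel.lift (γ d) η (η_γ d)) := by
  refine Twist.isIso_of_bijective_app _ fun U => ⟨fun r r' h => d.inj U ?_, fun z => ?_⟩
  · have := congrArg ((kernel.ι (γ d)).app U) h
    rwa [← CategoryTheory.comp_apply, ← CategoryTheory.comp_apply, ← Scheme.Modules.Hom.comp_app,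
      kernel.lift_ι] at this
  · have h0 : (γ d).app U ((kernel.ι (γ d)).app U z) = 0 :=
      congrArg (fun φ : kernel (γ d) ⟶ E d => φ.app U z) (kernel.condition (γ d))
    have h1 := congrArg ((ει d).app U) h0
    rw [ει_γ_app, map_zero, sub_eq_zero] at h1
    obtain ⟨r, hr⟩ := d.fixed U _ h1.symm
    exact ⟨r, M1.app_injective (kernel.ι (γ d)) U (by
      rw [← CategoryTheory.comp_apply, ← Scheme.Modules.Hom.comp_app, kernel.lift_ι]
      exact hr)⟩

/-- The split sequence `O → π_*O → E`. -/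
abbrev seq : ShortComplex S.Modules := ShortComplex.mk η (γ d) (η_γ d)

theorem nonempty_splitting : Nonempty (seq d).Splitting := by
  haveI := isIso_εγ d
  haveI := isIso_lift d
  let s : E d ⟶ P π := inv (ει d ≫ γ d) ≫ ει d
  have hs : s ≫ γ d = 𝟙 _ := by simp [s]
  let r : P π ⟶ Coh.structureModule S :=
    kernel.lift (γ d) (𝟙 _ - γ d ≫ s) (by rw [Preadditive.sub_comp, Category.assoc, hs]; simp) ≫
      inv (kernel.lift (γ d) η (η_γ d))
  refine ⟨{ r := r, s := s, f_r := ?_, s_g := hs, id := ?_ }⟩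
  · show η ≫ r = 𝟙 _
    simp only [r]
    rw [← Category.assoc, IsIso.comp_inv_eq]
    refine Eq.trans ?_ (Category.id_comp _).symm
    refine (cancel_mono (kernel.ι (γ d))).1 ?_
    rw [Category.assoc, kernel.lift_ι, kernel.lift_ι, Preadditive.comp_sub, ← Category.assoc, η_γ d]
    simp
  · show r ≫ η + γ d ≫ s = 𝟙 _
    have : r ≫ η = 𝟙 _ - γ d ≫ s := by
      simp only [r]
      rw [Category.assoc]
      nth_rewrite 2 [← kernel.lift_ι (γ d) η (η_γ d)]
      rw [IsIso.inv_hom_id_assoc, kernel.lift_ι]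
    rw [this, sub_add_cancel]

end Groth.Agent.SymSq10

end
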