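import Groth.Agent.Lib.SymSq10.Smooth
import Groth.Agent.Lib.SymSq10.Canon
import Groth.Agent.Lib.HypSq10.Rows

/-!
# The canonical class of the symmetric square
-/

set_option autoImplicit false
set_option linter.style.haveILetI false
set_option linter.unusedSectionVars false
set_option maxHeartbeats 2000000
set_option backward.isDefEq.respectTransparency false
set_option backward.isDefEq.respectTransparency.types false

universe u

open CategoryTheory CategoryTheory.Limits AlgebraicGeometry TopologicalSpace Opposite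

noncomputable section

namespace Groth.Agent.SymSq10

open Groth.Agent.Abel10 (pc)

noncomputable local instance instLawClass (Y : Scheme.{u}) : PicGrp.Law Y := M2.law Y

attribute [local instance] HypSq10.overSq

variable {k : Type u} [Field k] [IsAlgClosed k] {C : Scheme.{u}} [C.Over (Spec (CommRingCat.of k))]
  [IsProper (C ↘ Spec (CommRingCat.of k))] [Smooth (C ↘ Spec (CommRingCat.of k))] [IsIntegral C]
  {S : Scheme.{u}} [S.Over (Spec (CommRingCat.of k))] {π : HypSq10.Sq (k := k) C ⟶ S}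
  (hS : IsSymSq π) (hdim : topologicalKrullDim C = 1)
  (κ : C ⟶ CohB1.ProjSpace 1 k) [IsFinite κ] [Flat κ]
  (hκ : κ ≫ CohB1.ProjSpace.toSpec 1 k = C ↘ Spec (CommRingCat.of k))
  (hκ2 : ∀ y : ↥(CohB1.ProjSpace 1 k), κ.finrank y = 2) (hg : 2 ≤ Curv2.genus k C)
  (σ : C ⟶ C) (hσ : σ ≫ κ = κ) (hσp : σ ≫ (C ↘ Spec (CommRingCat.of k)) = C ↘ Spec (CommRingCat.of k))
  (hσσ : σ ≫ σ = 𝟙 C) (hσ1 : σ ≠ 𝟙 C) {N : (HypSq10.Sq (k := k) C).Modules} (hN : PicF.IsInvertible N)
  (hNinv : ClSub.IsInverseOf N (ClSub.idealMod (HypSq10.gr σ hσp).ker))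
  {W : S.Modules} (hW : ExtPow.IsExtPow 2 (Omega.sheaf (S ↘ Spec (CommRingCat.of k))) W)
include hS hdim hκ hκ2 hg hσ hσσ hσ1 hN hNinv hW

omit hκ hκ2 hg hσ hσσ hσ1 hN hNinv in
theorem isInvertible_canonical : PicF.IsInvertible W := by
  haveI := hS.proper
  haveI := smoothTwo hS hdim
  exact Wedge2.isInvertible_top (isFinLocFreeOfRank_omega 2 (S ↘ Spec (CommRingCat.of k))) hW

theorem pc_canonical (hWi : PicF.IsInvertible W) :
    pc π (PicGrp.cls W hWi) = HypSq10.Fm κ (Curv2.genus k C - 2) * PicGrp.cls N hN := by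
  haveI := hS.proper
  haveI := hS.dbl.affine
  haveI := isIntegral_quot hS.dbl
  haveI := smoothTwo hS hdim
  let f := C ↘ Spec (CommRingCat.of k)
  haveI := CurveCartier25.smoothOfRelativeDimension_one (C ↘ Spec (CommRingCat.of k)) hdim
  haveI : SmoothOfRelativeDimension (1 + 1) (pullback.fst f f ≫ f) := by
    haveI : MorphismProperty.IsStableUnderBaseChange (@SmoothOfRelativeDimension.{u} 1) := smoothOfRelativeDimension_isStableUnderBaseChange 1
    haveI : SmoothOfRelativeDimension 1 (pullback.fst f f) := MorphismProperty.pullback_fst (P := @SmoothOfRelativeDimension 1) f f ‹SmoothOfRelativeDimension 1 (C ↘ Spec (CommRingCat.of k))›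
    infer_instance
  haveI : SmoothOfRelativeDimension 2 ((HypSq10.Sq (k := k) C) ↘ Spec (CommRingCat.of k)) :=
    ‹SmoothOfRelativeDimension (1 + 1) (pullback.fst f f ≫ f)›
  haveI : IsSeparated ((HypSq10.Sq (k := k) C) ↘ Spec (CommRingCat.of k)) :=
    inferInstanceAs (IsSeparated (pullback.fst f f ≫ f))
  obtain ⟨e⟩ := nonempty_pullback_extPow (eff_diag hS hdim) (fix_diag hS) hS.hk
    (isFinLocFreeOfRank_omega 2 _) (isFinLocFreeOfRank_omega 2 _) hW (isExtPow_omega_sq f)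
  have hΩ : PicF.IsInvertible (Omega.sheaf f) :=
    (M2.isInvertible_iff_isFinLocFreeOfRank_one _).2 (isFinLocFreeOfRank_omega 1 f)
  have h1 := PicLoc.isInvertible_pullback (pullback.fst f f) hΩ
  have h2 := PicLoc.isInvertible_pullback (pullback.snd f f) hΩ
  have hI := M2.isInvertible_idealMod _ (eff_diag hS hdim)
  obtain ⟨ND, hND, ⟨j⟩⟩ := M2.exists_inverse hI
  have hNDinv : ClSub.IsInverseOf ND (ClSub.idealMod (pullback.diagonal (C ↘ Spec (CommRingCat.of k))).ker) :=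
    ⟨M2.tensorComm _ _ ≪≫ j⟩
  have hd := (PicGrp.cls_mul_cls_eq_one_iff hND hI).2 hNDinv
  have hdn := HypSq10.cls_diag_mul_gr κ hdim hκ hκ2 hg hND hNDinv σ hσ hσp hσσ hN hNinv hσ1
  have hc : pc π (PicGrp.cls W hWi) = PicGrp.cls _ hI *
      (pc (pullback.fst f f) (PicGrp.cls _ hΩ) * pc (pullback.snd f f) (PicGrp.cls _ hΩ)) := by
    rw [show pc (pullback.fst f f) (PicGrp.cls _ hΩ) = PicGrp.cls _ h1 from PicGrp.pullHom_cls _ _ _ _,
      show pc (pullback.snd f f) (PicGrp.cls _ hΩ) = PicGrp.cls _ h2 from PicGrp.pullHom_cls _ _ _ _,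
      AlgEquiv22.cls_tensor h1 h2, AlgEquiv22.cls_tensor hI (M2.isInvertible_tensor h1 h2)]
    exact (PicGrp.pullHom_cls π _ W hWi).trans ((PicGrp.cls_eq_cls_iff _ _).2 ⟨e⟩)
  rw [hc, eq_inv_of_mul_eq_one_right hd, HypSq10.cls_omega hdim κ hκ hκ2 hg hΩ]
  change (PicGrp.cls ND hND)⁻¹ * HypSq10.Fm κ (Curv2.genus k C - 1) = _
  have hF : HypSq10.Fm (k := k) (C := C) κ (Curv2.genus k C - 1) =
      HypSq10.Fm κ (Curv2.genus k C - 2) * HypSq10.Fm κ 1 := by
    simp only [HypSq10.Fm, show Curv2.genus k C - 1 = Curv2.genus k C - 2 + 1 by omega, pow_succ, map_mul]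
    apply Additive.ofMul.injective; simp; abel
  rw [hF, ← hdn]
  apply Additive.ofMul.injective; simp; abel

theorem intNum_canonical : FGA.intNum k S 2 ![W, W] (Coh.structureModule S) =
    ((Curv2.genus k C : ℤ) - 1) * (4 * (Curv2.genus k C : ℤ) - 9) := by
  haveI := hS.proper
  have hWi := isInvertible_canonical hS hdim hW
  have hI := M2.isInvertible_idealMod _ (eff_diag hS hdim)
  obtain ⟨ND, hND, ⟨j⟩⟩ := M2.exists_inverse hI
  have hNDinv : ClSub.IsInverseOf ND (ClSub.idealMod (pullback.diagonal (C ↘ Spec (CommRingCat.of k))).ker) :=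
    ⟨M2.tensorComm _ _ ≪≫ j⟩
  rw [intNum_eq' hS.dim hWi hWi]
  have h := sdot_pc hS hdim (PicGrp.cls W hWi) (PicGrp.cls W hWi)
  rw [pc_canonical hS hdim κ hκ hκ2 hg σ hσ hσp hσσ hσ1 hN hNinv hW hWi] at h
  have hFm : ∀ a, HypSq10.Fm (k := k) (C := C) κ a = (PicGrp.cls ND hND * PicGrp.cls N hN) ^ a := fun a => by
    rw [HypSq10.cls_diag_mul_gr κ hdim hκ hκ2 hg hND hNDinv σ hσ hσp hσσ hN hNinv hσ1]
    simp only [HypSq10.Fm, pow_one, map_pow, mul_pow]
  have hl : ∀ x y z : PicLoc.PicSet (HypSq10.Sq (k := k) C),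
      HypSq10.dot (k := k) z (x * y) = HypSq10.dot (k := k) z x + HypSq10.dot (k := k) z y := fun x y z => by
    rw [HypSq10.dot_comm, HypSq10.dot_mul hdim, HypSq10.dot_comm x, HypSq10.dot_comm y]
  have hlp : ∀ (x z : PicLoc.PicSet (HypSq10.Sq (k := k) C)) (r : ℕ),
      HypSq10.dot (k := k) z (x ^ r) = r * HypSq10.dot (k := k) z x := fun x z r => by
    rw [HypSq10.dot_comm, HypSq10.dot_pow hdim, HypSq10.dot_comm x]
  simp only [hFm, mul_pow, HypSq10.dot_mul hdim, HypSq10.dot_pow hdim, hl, hlp] at h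
  rw [HypSq10.dot_comm (PicGrp.cls ND hND) (PicGrp.cls N hN)] at h
  simp only [HypSq10.dot_diag_diag κ hdim hκ hκ2 hg hND hNDinv,
    HypSq10.dot_gr_gr κ hdim hκ hκ2 hg σ hσ hσp hσσ hN hNinv,
    HypSq10.dot_gr_diag κ hdim hκ hκ2 hg hND hNDinv σ hσ hσp hσσ hN hNinv hσ1] at h
  obtain ⟨a, ha⟩ : ∃ a, Curv2.genus k C = a + 2 := ⟨Curv2.genus k C - 2, by omega⟩
  rw [ha] at h ⊢
  simp only [Nat.add_sub_cancel] at h
  push_cast at h ⊢
  linarith

end Groth.Agent.SymSq10

end
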