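import Groth.Agent.Lib.SymSq10.Good

/-!
# The differential of a double quotient on a chart
-/

set_option autoImplicit false
set_option linter.style.haveILetI false
set_option linter.unusedSectionVars false
set_option maxHeartbeats 1000000
set_option backward.isDefEq.respectTransparency false
set_option backward.isDefEq.respectTransparency.types false

universe u

open CategoryTheory CategoryTheory.Limits AlgebraicGeometry TopologicalSpace Opposite

noncomputable section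

namespace Groth.Agent.SymSq10

section Wedge

open exteriorPower

variable {A : Type u} [CommRing A] {M : Type u} [AddCommGroup M] [Module A M]

theorem wedge_span {v : Fin 2 → M} (hv : Submodule.span A (Set.range v) = ⊤) (η : ⋀[A]^2 M) :
    ∃ c : A, η = c • ιMulti A 2 v := by
  let L : (Fin 2 → A) →ₗ[A] M := Fintype.linearCombination A v
  have hL : Function.Surjective L := by
    rw [← LinearMap.range_eq_top, Fintype.range_linearCombination]; exact hv
  obtain ⟨ω, rfl⟩ := exteriorPower.map_surjective (n := 2) hL η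
  obtain ⟨c, rfl⟩ := (Wedge2.bijective_smul_top (Pi.basisFun A (Fin 2))).2 ω
  refine ⟨c, ?_⟩
  show exteriorPower.map 2 L (c • ιMulti A 2 ⇑(Pi.basisFun A (Fin 2))) = c • ιMulti A 2 v
  rw [map_smul, exteriorPower.map_apply_ιMulti]
  congr 2
  funext i
  show L (Pi.basisFun A (Fin 2) i) = v i
  rw [Pi.basisFun_apply, Fintype.linearCombination_apply_single, one_smul]

theorem wedge_snd (x y : M) (r s : A) : ιMulti A 2 ![x, r • x + s • y] = s • ιMulti A 2 ![x, y] := by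
  have e : ∀ z, Function.update ![x, y] 1 z = ![x, z] := fun z => by
    funext i; fin_cases i <;> simp
  rw [← e (r • x + s • y), AlternatingMap.map_update_add, AlternatingMap.map_update_smul,
    AlternatingMap.map_update_smul, e, e, AlternatingMap.map_eq_zero_of_eq (i := 0) (j := 1) _ _ (by rfl) (by decide),
    smul_zero, zero_add]

theorem wedge_fst (x y : M) (r s : A) : ιMulti A 2 ![r • y + s • x, y] = s • ιMulti A 2 ![x, y] := by
  have e : ∀ z, Function.update ![x, y] 0 z = ![z, y] := fun z => by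
    funext i; fin_cases i <;> simp
  rw [← e (r • y + s • x), AlternatingMap.map_update_add, AlternatingMap.map_update_smul,
    AlternatingMap.map_update_smul, e, e, AlternatingMap.map_eq_zero_of_eq (i := 0) (j := 1) _ _ (by rfl) (by decide),
    smul_zero, zero_add]

end Wedge

variable {k : Type u} [Field k] {X S : Scheme.{u}} [X.Over (Spec (CommRingCat.of k))]
  [S.Over (Spec (CommRingCat.of k))] [IsSeparated (X ↘ Spec (CommRingCat.of k))]
  [IsSeparated (S ↘ Spec (CommRingCat.of k))] {π : X ⟶ S} [IsAffineHom π] [IsIntegral X] {τ : X ⟶ X} {d : Dbl π τ}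
  {I : X.IdealSheafData}
  (α : Omega.sheaf (S ↘ Spec (CommRingCat.of k)) ⟶
    (Scheme.Modules.pushforward π).obj (Omega.sheaf (X ↘ Spec (CommRingCat.of k))))

/-- The differential of the cover on sections. -/
abbrev αs (D : S.Opens) (m : Γ(Omega.sheaf (S ↘ Spec (CommRingCat.of k)), D)) :
    Γ(Omega.sheaf (X ↘ Spec (CommRingCat.of k)), π ⁻¹ᵁ D) := α.app D m

theorem αs_smul (D : S.Opens) (c : Γ(S, D)) (m : Γ(Omega.sheaf (S ↘ Spec (CommRingCat.of k)), D)) :
    αs α D (c • m) = π.app D c • αs α D m := Scheme.Modules.Hom.app_smul α c m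

theorem αs_add (D : S.Opens) (m m' : Γ(Omega.sheaf (S ↘ Spec (CommRingCat.of k)), D)) :
    αs α D (m + m') = αs α D m + αs α D m' := map_add (α.app D).hom m m'

variable (hα : ∀ (D : S.Opens) (r : Γ(S, D)), αs α D (OmegaSh.dSect (S ↘ Spec (CommRingCat.of k)) D r) =
    OmegaSh.dSect (X ↘ Spec (CommRingCat.of k)) (π ⁻¹ᵁ D) (π.app D r))
  (hk : π ≫ (S ↘ Spec (CommRingCat.of k)) = X ↘ Spec (CommRingCat.of k))
  {D : S.Opens} (c : Chart d I D) (e : Module.Basis (Fin 2) Γ(S, D) Γ(Omega.sheaf (S ↘ Spec (CommRingCat.of k)), D))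
include hα

theorem d_pi_eq (r : Γ(S, D)) : OmegaSh.dSect (X ↘ Spec (CommRingCat.of k)) (π ⁻¹ᵁ D) (π.app D r) =
    π.app D (e.repr (OmegaSh.dSect (S ↘ Spec (CommRingCat.of k)) D r) 0) • αs α D (e 0) +
      π.app D (e.repr (OmegaSh.dSect (S ↘ Spec (CommRingCat.of k)) D r) 1) • αs α D (e 1) := by
  rw [← hα, ← αs_smul, ← αs_smul, ← αs_add]
  congr 1
  conv_lhs => rw [← e.sum_repr (OmegaSh.dSect (S ↘ Spec (CommRingCat.of k)) D r)]
  rw [Fin.sum_univ_two]

theorem span_three : Submodule.span Γ(X, π ⁻¹ᵁ D) {αs α D (e 0), αs α D (e 1), (OmegaSh.dSect (X ↘ Spec (CommRingCat.of k)) (π ⁻¹ᵁ D) c.t)} =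
    (⊤ : Submodule Γ(X, π ⁻¹ᵁ D) Γ(Omega.sheaf (X ↘ Spec (CommRingCat.of k)), π ⁻¹ᵁ D)) := by
  set N := Submodule.span Γ(X, π ⁻¹ᵁ D) {αs α D (e 0), αs α D (e 1), (OmegaSh.dSect (X ↘ Spec (CommRingCat.of k)) (π ⁻¹ᵁ D) c.t)}
  rw [eq_top_iff, ← span_dSect (X ↘ Spec (CommRingCat.of k)) (c.aff.preimage π) (isAffineOpen_top _) le_top,
    Submodule.span_le]
  rintro _ ⟨b, rfl⟩
  have hπ : ∀ r, OmegaSh.dSect (X ↘ Spec (CommRingCat.of k)) (π ⁻¹ᵁ D) (π.app D r) ∈ N := fun r => by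
    rw [d_pi_eq α hα e r]
    exact N.add_mem (N.smul_mem _ (Submodule.subset_span (by simp))) (N.smul_mem _ (Submodule.subset_span (by simp)))
  obtain ⟨r, u, rfl⟩ := c.dec b
  rw [OmegaSh.dSect_add, OmegaSh.dSect_mul]
  exact N.add_mem (hπ r) (N.add_mem (N.smul_mem _ (Submodule.subset_span (by simp))) (N.smul_mem _ (hπ u)))

variable {s : Γ(S, D)} (hs : π.app D s = Chart.t c * Chart.t c)
include hs

theorem two_t_dt : (2 * c.t) • (OmegaSh.dSect (X ↘ Spec (CommRingCat.of k)) (π ⁻¹ᵁ D) c.t) =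
    π.app D (e.repr (OmegaSh.dSect (S ↘ Spec (CommRingCat.of k)) D s) 0) • αs α D (e 0) +
      π.app D (e.repr (OmegaSh.dSect (S ↘ Spec (CommRingCat.of k)) D s) 1) • αs α D (e 1) := by
  rw [← d_pi_eq α hα e s, hs, OmegaSh.dSect_mul, ← add_smul, two_mul]

include hk in
/-- The three functions have no common zero on the cover. -/
theorem unimodular (hX : FlatMod.IsFinLocFreeOfRank 2 (Omega.sheaf (X ↘ Spec (CommRingCat.of k)))) (z : X)
    (hz : π z ∈ D) :
    π z ∈ S.basicOpen s ∨ π z ∈ S.basicOpen (e.repr (OmegaSh.dSect (S ↘ Spec (CommRingCat.of k)) D s) 0) ∨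
      π z ∈ S.basicOpen (e.repr (OmegaSh.dSect (S ↘ Spec (CommRingCat.of k)) D s) 1) := by
  classical
  by_contra hno
  push Not at hno
  obtain ⟨hs0, hp0, hp1⟩ := hno
  set V := π ⁻¹ᵁ D
  have hV : IsAffineOpen V := c.aff.preimage π
  haveI : Nonempty (V : X.Opens) := ⟨⟨z, hz⟩⟩
  set P := (hV.primeIdealOf ⟨z, hz⟩).asIdeal
  let χ : Γ(X, V) →+* P.ResidueField := algebraMap _ _
  have hχ : ∀ b, χ b = 0 ↔ b ∈ P := fun b => Ideal.algebraMap_residueField_eq_zero
  have hz0 : ∀ a : Γ(S, D), π z ∉ S.basicOpen a → χ (π.app D a) = 0 := fun a ha => by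
    rw [hχ]
    by_contra hn
    refine ha ?_
    have h1 : z ∈ π ⁻¹ᵁ S.basicOpen a := by
      rw [Scheme.preimage_basicOpen]
      exact (mem_basicOpen_iff_prime hV _ hz).2 hn
    exact h1
  have ht : χ c.t = 0 := by
    have h1 := hz0 s hs0
    rw [hs, map_mul] at h1
    exact mul_self_eq_zero.1 h1
  choose R U hRU using c.dec
  have hadd : ∀ a b, R (a + b) = R a + R b ∧ U (a + b) = U a + U b := fun a b => c.dec_unique (by
    rw [← hRU (a + b), map_add, map_add]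
    conv_lhs => rw [hRU a, hRU b]
    ring)
  have hmul : ∀ a b, R (a * b) = R a * R b + s * (U a * U b) ∧ U (a * b) = R a * U b + U a * R b := fun a b =>
    c.dec_unique (by
      rw [← hRU (a * b)]
      simp only [map_add, map_mul, hs]
      conv_lhs => rw [hRU a, hRU b]
      ring)
  have hχR : ∀ b, χ (π.app D (R b)) = χ b := fun b => by
    conv_rhs => rw [hRU b, map_add, map_mul, ht, mul_zero, add_zero]
  have hπ' : ∀ r, R (π.app D r) = r ∧ U (π.app D r) = 0 := fun r => c.dec_unique (by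
    rw [← hRU (π.app D r), map_zero, zero_mul, add_zero])
  have ht' : R c.t = 0 ∧ U c.t = 1 := c.dec_unique (by rw [← hRU c.t, map_zero, map_one, zero_add, one_mul])
  let co : Fin 2 → Γ(S, D) → P.ResidueField := fun i r =>
    χ (π.app D (e.repr (OmegaSh.dSect (S ↘ Spec (CommRingCat.of k)) D r) i))
  have coAdd : ∀ i r r', co i (r + r') = co i r + co i r' := fun i r r' => by
    simp only [co, OmegaSh.dSect_add, map_add, Finsupp.add_apply]
  have coMul : ∀ i r r', co i (r * r') = χ (π.app D r) * co i r' + χ (π.app D r') * co i r := fun i r r' => by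
    simp only [co, OmegaSh.dSect_mul, map_add, map_smul, Finsupp.add_apply, Finsupp.smul_apply, smul_eq_mul, map_mul]
  have cs : ∀ i, co i s = 0 := fun i => by
    fin_cases i
    · exact hz0 _ hp0
    · exact hz0 _ hp1
  have hs' : χ (π.app D s) = 0 := hz0 s hs0
  let G : Fin 3 → Γ(X, V) →+ P.ResidueField := fun j =>
    AddMonoidHom.mk' (fun b => ![co 0 (R b), co 1 (R b), χ (π.app D (U b))] j) fun a b => by
      rw [(hadd a b).1, (hadd a b).2, coAdd, coAdd, map_add, map_add]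
      fin_cases j <;> rfl
  have Gmul : ∀ j a b, G j (a * b) = χ a * G j b + χ b * G j a := by
    intro j a b
    have h2 : ∀ i, co i (R (a * b)) = χ a * co i (R b) + χ b * co i (R a) := fun i => by
      rw [(hmul a b).1, coAdd, coMul, coMul, coMul, cs, hs', hχR, hχR]
      ring
    fin_cases j
    · exact h2 0
    · exact h2 1
    · show χ (π.app D (U (a * b))) = χ a * χ (π.app D (U b)) + χ b * χ (π.app D (U a))
      rw [(hmul a b).2, map_add, map_add, map_mul, map_mul, map_mul, map_mul, hχR, hχR]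
      ring
  have Gconst : ∀ j c', G j ((X ↘ Spec (CommRingCat.of k)).appLE ⊤ V le_top c') = 0 := by
    intro j c'
    have hc : (X ↘ Spec (CommRingCat.of k)).appLE ⊤ V le_top c' =
        π.app D ((S ↘ Spec (CommRingCat.of k)).appLE ⊤ D le_top c') := by
      rw [← CategoryTheory.comp_apply, π.app_eq_appLE, Scheme.Hom.appLE_comp_appLE]
      exact congr($(IsQuot25.appLE_eq hk.symm ⊤ V le_top) c')
    have hd0 : OmegaSh.dSect (S ↘ Spec (CommRingCat.of k)) D
        ((S ↘ Spec (CommRingCat.of k)).appLE ⊤ D le_top c') = 0 :=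
      OmAff.dSect_appLE (S ↘ Spec (CommRingCat.of k)) ⊤ D le_top c'
    show ![co 0 (R _), co 1 (R _), χ (π.app D (U _))] j = 0
    rw [hc, (hπ' _).1, (hπ' _).2]
    fin_cases j <;> simp [co, hd0]
  choose ℓ hℓs hℓ using fun j =>
    exists_of_der (X ↘ Spec (CommRingCat.of k)) hV (isAffineOpen_top _) le_top χ (G j) (Gmul j) (Gconst j)
  let L : Γ(Omega.sheaf (X ↘ Spec (CommRingCat.of k)), V) → (Fin 3 → P.ResidueField) := fun m j => ℓ j m
  have La : ∀ i : Fin 2, L (αs α D (e i)) = fun j : Fin 3 => if (j : ℕ) = (i : ℕ) then 1 else 0 := by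
    have key : ∀ r, L (OmegaSh.dSect (X ↘ Spec (CommRingCat.of k)) V (π.app D r)) = ![co 0 r, co 1 r, 0] := fun r => by
      funext j
      show ℓ j _ = _
      rw [hℓ]
      show ![co 0 (R _), co 1 (R _), χ (π.app D (U _))] j = _
      rw [(hπ' r).1, (hπ' r).2, map_zero, map_zero]
    intro i
    have hLadd : ∀ m m', L (m + m') = L m + L m' := fun m m' => funext fun j => map_add (ℓ j) m m'
    have hLsmul : ∀ b m, L (b • m) = χ b • L m := fun b m => funext fun j => hℓs j b m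
    have hx : e i ∈ Submodule.span Γ(S, D) (Set.range (OmegaSh.dSect (S ↘ Spec (CommRingCat.of k)) D)) := by
      rw [span_dSect (S ↘ Spec (CommRingCat.of k)) c.aff (isAffineOpen_top _) le_top]; trivial
    have gen : ∀ m ∈ Submodule.span Γ(S, D) (Set.range (OmegaSh.dSect (S ↘ Spec (CommRingCat.of k)) D)),
        L (αs α D m) = ![χ (π.app D (e.repr m 0)), χ (π.app D (e.repr m 1)), 0] := by
      intro m hm
      induction hm using Submodule.span_induction with
      | mem y hy =>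
        obtain ⟨r, rfl⟩ := hy
        rw [hα]
        exact key r
      | zero =>
        rw [show αs α D 0 = 0 from map_zero (α.app D).hom]
        funext j; fin_cases j <;> simp [L]
      | add y y' _ _ hy hy' =>
        rw [αs_add, hLadd, hy, hy']
        funext j; fin_cases j <;> simp
      | smul r y _ hy =>
        rw [αs_smul, hLsmul, hy]
        funext j; fin_cases j <;> simp
    rw [gen (e i) hx]
    funext j
    fin_cases i <;> fin_cases j <;> simp
  have Lt : L (OmegaSh.dSect (X ↘ Spec (CommRingCat.of k)) (π ⁻¹ᵁ D) c.t) = ![0, 0, 1] := by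
    funext j
    show ℓ j _ = _
    rw [hℓ]
    show ![co 0 (R _), co 1 (R _), χ (π.app D (U _))] j = _
    rw [ht'.1, ht'.2, map_one, map_one]
    have h0 : ∀ i, co i (0 : Γ(S, D)) = 0 := fun i => by
      have := coAdd i 0 0
      rwa [add_zero, left_eq_add] at this
    rw [h0, h0]
  obtain ⟨W₀, w₀, hzW₀, hw₀⟩ := P1Split.exists_isBas_nhd hX z
  obtain ⟨h, hle, hzh⟩ := hV.exists_basicOpen_le (V := W₀) ⟨z, hzW₀⟩ hz
  have hh : χ h ≠ 0 := fun H => (mem_basicOpen_iff_prime hV h hz).1 hzh ((hχ h).1 H)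
  haveI : Coh.IsQCoh (Omega.sheaf (X ↘ Spec (CommRingCat.of k))) := Omega26.isQCoh _
  have hn := fun i : Fin 2 => M1.exists_pow_smul_eq_res_affine (Omega.sheaf (X ↘ Spec (CommRingCat.of k))) hV h
    (M1.mres _ hle (w₀ i))
  choose n x hx using hn
  have hspan : ∀ m, L m ∈ Submodule.span P.ResidueField (Set.range fun i => L (x i)) := by
    intro m
    obtain ⟨a, ha⟩ := (hw₀ (X.basicOpen h) hle).2 (M1.mres _ (X.basicOpen_le h) m)
    letI : Algebra Γ(X, V) Γ(X, X.basicOpen h) := (M1.ores (X.basicOpen_le h)).hom.toAlgebra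
    haveI : IsLocalization.Away h Γ(X, X.basicOpen h) := hV.isLocalization_basicOpen h
    obtain ⟨N, hN⟩ := IsLocalization.exist_integer_multiples (Submonoid.powers h) Finset.univ a
    obtain ⟨_, N, rfl⟩ := N
    choose a' ha' using fun i => hN i (Finset.mem_univ i)
    have e1 : M1.mres _ (X.basicOpen_le h) (h ^ (n 0 + n 1 + N) • m) =
        M1.mres _ (X.basicOpen_le h) ((h ^ n 1 * a' 0) • x 0 + (h ^ n 0 * a' 1) • x 1) := by
      rw [map_add, M1.mres_smul, M1.mres_smul, M1.mres_smul]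
      erw [hx 0, hx 1]
      rw [← ha, map_mul, map_mul, map_pow, map_pow, map_pow]
      simp only [Fintype.linearCombination_apply, Fin.sum_univ_two, smul_add, smul_smul]
      have q : ∀ i, M1.ores (X.basicOpen_le h) (a' i) = M1.ores (X.basicOpen_le h) h ^ N * a i := fun i => by
        rw [← map_pow]; exact ha' i
      rw [q, q]
      congr 1 <;> congr 1 <;> ring
    obtain ⟨N', hN'⟩ := M1.exists_pow_smul_eq_zero_affine (Omega.sheaf (X ↘ Spec (CommRingCat.of k))) hV h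
      (h ^ (n 0 + n 1 + N) • m - ((h ^ n 1 * a' 0) • x 0 + (h ^ n 0 * a' 1) • x 1)) (by
        rw [map_sub, sub_eq_zero]; exact e1)
    rw [smul_sub, sub_eq_zero, smul_smul, ← pow_add] at hN'
    have e2 : ∀ j, ℓ j (h ^ (N' + (n 0 + n 1 + N)) • m) =
        ℓ j (h ^ N' • ((h ^ n 1 * a' 0) • x 0 + (h ^ n 0 * a' 1) • x 1)) := fun j => congrArg (ℓ j) hN'
    have e3 : L m = (χ h ^ (N' + (n 0 + n 1 + N)))⁻¹ • (χ h ^ N' • (χ (h ^ n 1 * a' 0) • L (x 0) +
        χ (h ^ n 0 * a' 1) • L (x 1))) := by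
      rw [eq_inv_smul_iff₀ (pow_ne_zero _ hh)]
      funext j
      have := e2 j
      simp only [hℓs, map_add, map_pow] at this
      simpa [L, mul_add] using this
    rw [e3]
    refine Submodule.smul_mem _ _ (Submodule.smul_mem _ _ (Submodule.add_mem _ ?_ ?_))
    · exact Submodule.smul_mem _ _ (Submodule.subset_span ⟨0, rfl⟩)
    · exact Submodule.smul_mem _ _ (Submodule.subset_span ⟨1, rfl⟩)
  have htop : Submodule.span P.ResidueField (Set.range fun i => L (x i)) = ⊤ := by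
    rw [eq_top_iff, ← (Pi.basisFun P.ResidueField (Fin 3)).span_eq, Submodule.span_le]
    rintro _ ⟨j, rfl⟩
    rw [Pi.basisFun_apply, show Pi.single j (1 : P.ResidueField) =
      L (![αs α D (e 0), αs α D (e 1), (OmegaSh.dSect (X ↘ Spec (CommRingCat.of k)) (π ⁻¹ᵁ D) c.t)] j) by
        fin_cases j
        · show _ = L (αs α D (e 0))
          rw [La 0]; funext i; fin_cases i <;> simp
        · show _ = L (αs α D (e 1))
          rw [La 1]; funext i; fin_cases i <;> simp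
        · show _ = L (OmegaSh.dSect (X ↘ Spec (CommRingCat.of k)) (π ⁻¹ᵁ D) c.t)
          rw [Lt]; funext i; fin_cases i <;> simp]
    exact hspan _
  have h3 := finrank_range_le_card (R := P.ResidueField) fun i => L (x i)
  rw [Set.finrank, htop, finrank_top, Module.finrank_fin_fun] at h3
  simp at h3

/-- Where one of the three functions is a unit, the differential vanishes exactly to first order. -/
theorem exists_wedge_gen (h : IsUnit s ∨ IsUnit (e.repr (OmegaSh.dSect (S ↘ Spec (CommRingCat.of k)) D s) 0) ∨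
      IsUnit (e.repr (OmegaSh.dSect (S ↘ Spec (CommRingCat.of k)) D s) 1)) :
    ∃ γ : ↥(⋀[Γ(X, π ⁻¹ᵁ D)]^2 Γ(Omega.sheaf (X ↘ Spec (CommRingCat.of k)), π ⁻¹ᵁ D)),
      (∀ η, ∃ r : Γ(X, π ⁻¹ᵁ D), η = r • γ) ∧
        exteriorPower.ιMulti Γ(X, π ⁻¹ᵁ D) 2 ![αs α D (e 0), αs α D (e 1)] = c.t • γ := by
  obtain ⟨v, hv⟩ := d.two D
  set b := π.app D v
  have hb : b * 2 = 1 := by simp only [b]; rw [← map_ofNat (π.app D).hom 2, ← map_mul, hv, map_one]
  set p₀ := π.app D (e.repr (OmegaSh.dSect (S ↘ Spec (CommRingCat.of k)) D s) 0)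
  set p₁ := π.app D (e.repr (OmegaSh.dSect (S ↘ Spec (CommRingCat.of k)) D s) 1)
  set a₀ := αs α D (e 0)
  set a₁ := αs α D (e 1)
  have rel : (2 * c.t) • (OmegaSh.dSect (X ↘ Spec (CommRingCat.of k)) (π ⁻¹ᵁ D) c.t) = p₀ • a₀ + p₁ • a₁ := two_t_dt α hα c e hs
  have h3 : Submodule.span Γ(X, π ⁻¹ᵁ D) {a₀, a₁, (OmegaSh.dSect (X ↘ Spec (CommRingCat.of k)) (π ⁻¹ᵁ D) c.t)} = ⊤ := span_three α hα c e
  have key : ∀ (w : Fin 2 → Γ(Omega.sheaf (X ↘ Spec (CommRingCat.of k)), π ⁻¹ᵁ D)) (u : Γ(X, π ⁻¹ᵁ D)ˣ),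
      a₀ ∈ Submodule.span Γ(X, π ⁻¹ᵁ D) (Set.range w) → a₁ ∈ Submodule.span Γ(X, π ⁻¹ᵁ D) (Set.range w) →
      (OmegaSh.dSect (X ↘ Spec (CommRingCat.of k)) (π ⁻¹ᵁ D) c.t) ∈ Submodule.span Γ(X, π ⁻¹ᵁ D) (Set.range w) →
      exteriorPower.ιMulti Γ(X, π ⁻¹ᵁ D) 2 ![a₀, a₁] = (c.t * u) • exteriorPower.ιMulti Γ(X, π ⁻¹ᵁ D) 2 w →
      ∃ γ : ↥(⋀[Γ(X, π ⁻¹ᵁ D)]^2 Γ(Omega.sheaf (X ↘ Spec (CommRingCat.of k)), π ⁻¹ᵁ D)),
      (∀ η, ∃ r : Γ(X, π ⁻¹ᵁ D), η = r • γ) ∧
        exteriorPower.ιMulti Γ(X, π ⁻¹ᵁ D) 2 ![a₀, a₁] = c.t • γ := by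
    intro w u h0 h1 h2 hw
    have hspan : Submodule.span Γ(X, π ⁻¹ᵁ D) (Set.range w) = ⊤ := by
      rw [eq_top_iff, ← h3, Submodule.span_le]
      rintro y (rfl | rfl | rfl)
      exacts [h0, h1, h2]
    refine ⟨(u : Γ(X, π ⁻¹ᵁ D)) • exteriorPower.ιMulti Γ(X, π ⁻¹ᵁ D) 2 w, fun η => ?_, by rw [hw, mul_smul]⟩
    obtain ⟨r, rfl⟩ := wedge_span hspan η
    exact ⟨r * ↑u⁻¹, by rw [smul_smul, Units.inv_mul_cancel_right]⟩
  rcases h with hu | hu | hu
  · have ht : IsUnit c.t := isUnit_of_mul_isUnit_left (hs ▸ hu.map (π.app D).hom : IsUnit (c.t * c.t))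
    obtain ⟨T, hT⟩ := ht
    refine key ![a₀, a₁] T⁻¹ (Submodule.subset_span ⟨0, rfl⟩) (Submodule.subset_span ⟨1, rfl⟩) ?_
      (by rw [← hT, Units.mul_inv, one_smul])
    have e1 : (OmegaSh.dSect (X ↘ Spec (CommRingCat.of k)) (π ⁻¹ᵁ D) c.t) = (b * (↑T⁻¹ : Γ(X, π ⁻¹ᵁ D))) • (p₀ • a₀ + p₁ • a₁) := by
      rw [← rel, smul_smul, show b * (↑T⁻¹ : Γ(X, π ⁻¹ᵁ D)) * (2 * c.t) = 1 by
        rw [← hT, show b * ↑T⁻¹ * (2 * (T : Γ(X, π ⁻¹ᵁ D))) = b * 2 * (↑T⁻¹ * ↑T) by ring, hb, Units.inv_mul,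
          one_mul], one_smul]
    rw [e1]
    exact Submodule.smul_mem _ _ (Submodule.add_mem _ (Submodule.smul_mem _ _ (Submodule.subset_span ⟨0, rfl⟩))
      (Submodule.smul_mem _ _ (Submodule.subset_span ⟨1, rfl⟩)))
  · obtain ⟨P₀, hP⟩ : IsUnit p₀ := hu.map (π.app D).hom
    have e1 : a₀ = (-(↑P₀⁻¹ : Γ(X, π ⁻¹ᵁ D)) * p₁) • a₁ + (↑P₀⁻¹ * (2 * c.t)) • (OmegaSh.dSect (X ↘ Spec (CommRingCat.of k)) (π ⁻¹ᵁ D) c.t) := by
      have := congrArg (fun y => (↑P₀⁻¹ : Γ(X, π ⁻¹ᵁ D)) • y) rel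
      simp only [smul_add, smul_smul] at this
      rw [this, ← hP, Units.inv_mul, one_smul]
      module
    have hunit : IsUnit ((↑P₀⁻¹ : Γ(X, π ⁻¹ᵁ D)) * 2) :=
      (Units.isUnit _).mul (IsUnit.of_mul_eq_one b (by rw [mul_comm]; exact hb))
    refine key ![(OmegaSh.dSect (X ↘ Spec (CommRingCat.of k)) (π ⁻¹ᵁ D) c.t), a₁] hunit.unit ?_ (Submodule.subset_span ⟨1, rfl⟩) (Submodule.subset_span ⟨0, rfl⟩) ?_
    · rw [e1]
      exact Submodule.add_mem _ (Submodule.smul_mem _ _ (Submodule.subset_span ⟨1, rfl⟩))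
        (Submodule.smul_mem _ _ (Submodule.subset_span ⟨0, rfl⟩))
    · rw [e1, wedge_fst, IsUnit.unit_spec]
      congr 1
      ring
  · obtain ⟨P₁, hP⟩ : IsUnit p₁ := hu.map (π.app D).hom
    have e1 : a₁ = (-(↑P₁⁻¹ : Γ(X, π ⁻¹ᵁ D)) * p₀) • a₀ + (↑P₁⁻¹ * (2 * c.t)) • (OmegaSh.dSect (X ↘ Spec (CommRingCat.of k)) (π ⁻¹ᵁ D) c.t) := by
      have := congrArg (fun y => (↑P₁⁻¹ : Γ(X, π ⁻¹ᵁ D)) • y) rel
      simp only [smul_add, smul_smul] at this
      rw [this, ← hP, Units.inv_mul, one_smul]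
      module
    have hunit : IsUnit ((↑P₁⁻¹ : Γ(X, π ⁻¹ᵁ D)) * 2) :=
      (Units.isUnit _).mul (IsUnit.of_mul_eq_one b (by rw [mul_comm]; exact hb))
    refine key ![a₀, (OmegaSh.dSect (X ↘ Spec (CommRingCat.of k)) (π ⁻¹ᵁ D) c.t)] hunit.unit (Submodule.subset_span ⟨0, rfl⟩) ?_ (Submodule.subset_span ⟨1, rfl⟩) ?_
    · rw [e1]
      exact Submodule.add_mem _ (Submodule.smul_mem _ _ (Submodule.subset_span ⟨0, rfl⟩))
        (Submodule.smul_mem _ _ (Submodule.subset_span ⟨1, rfl⟩))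
    · rw [e1, wedge_snd, IsUnit.unit_spec]
      congr 1
      ring

end Groth.Agent.SymSq10

end
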