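import Groth.Agent.Lib.SymSq10.Main
import Groth.Agent.Lib.AlgEquiv22.Closed

/-!
# Pullback to the square is injective on classes
-/

set_option autoImplicit false
set_option linter.style.haveILetI false
set_option linter.unusedSectionVars false
set_option maxHeartbeats 2000000
set_option backward.isDefEq.respectTransparency false
set_option backward.isDefEq.respectTransparency.types false

universe u

open CategoryTheory CategoryTheory.Limits AlgebraicGeometry TopologicalSpace Opposite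

noncomputable section

namespace Groth.Agent.SymSq10

open Groth.Agent.Abel10 (pc pc_comp pc_id)
open Groth.Agent.HypSq10 (chi hh Van deg rep rep_inv cls_rep)

noncomputable local instance instLawInj (Y : Scheme.{u}) : PicGrp.Law Y := M2.law Y

attribute [local instance] HypSq10.overSq

theorem eq_one_iff_sections {k : Type u} [Field k] {Y : Scheme.{u}} [Y.Over (Spec (CommRingCat.of k))]
    [IsProper (Y ↘ Spec (CommRingCat.of k))] [IsIntegral Y] (c : PicLoc.PicSet Y) :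
    c = 1 ↔ ¬ Van 0 c ∧ ¬ Van 0 c⁻¹ := by
  have h := AlgEquiv22.isTriv_iff_sections (k := k) (Y ↘ Spec (CommRingCat.of k)) (rep_inv c) (rep_inv c⁻¹)
    ((PicGrp.cls_mul_cls_eq_one_iff (rep_inv c) (rep_inv c⁻¹)).1 (by rw [cls_rep, cls_rep, mul_inv_cancel]))
  rw [← not_subsingleton_iff_nontrivial, ← not_subsingleton_iff_nontrivial] at h
  refine Iff.trans ?_ h
  rw [CubeField.IsTriv, ← PicGrp.cls_eq_one_iff (rep_inv c), cls_rep]

variable {k : Type u} [Field k] [IsAlgClosed k] {C : Scheme.{u}} [C.Over (Spec (CommRingCat.of k))]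
  [IsProper (C ↘ Spec (CommRingCat.of k))] [Smooth (C ↘ Spec (CommRingCat.of k))] [IsIntegral C]
  {S : Scheme.{u}} [S.Over (Spec (CommRingCat.of k))] {π : HypSq10.Sq (k := k) C ⟶ S}
  (hS : IsSymSq π) (hdim : topologicalKrullDim C = 1)
  (κ : C ⟶ CohB1.ProjSpace 1 k) [IsFinite κ] [Flat κ]
  (hκ : κ ≫ CohB1.ProjSpace.toSpec 1 k = C ↘ Spec (CommRingCat.of k))
  (hκ2 : ∀ y : ↥(CohB1.ProjSpace 1 k), κ.finrank y = 2) (hg : 2 ≤ Curv2.genus k C)
include hS hdim hκ hκ2 hg

/-- The diagonal has no sections with opposite sign. -/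
theorem van_zero_diag_inv {ND : (HypSq10.Sq (k := k) C).Modules} (hND : PicF.IsInvertible ND)
    (hNDinv : ClSub.IsInverseOf ND (ClSub.idealMod (pullback.diagonal (C ↘ Spec (CommRingCat.of k))).ker)) :
    Van 0 ((PicGrp.cls ND hND)⁻¹) := by
  have h1 : ¬ Van 0 (1 : PicLoc.PicSet (HypSq10.Sq (k := k) C)) :=
    ((eq_one_iff_sections (k := k) (1 : PicLoc.PicSet (HypSq10.Sq (k := k) C))).1 rfl).1
  have hd : ¬ Van 0 (PicGrp.cls ND hND) := fun hv => h1 (by
    obtain ⟨T, hT, ⟨e1⟩, ⟨e2⟩, -⟩ := HypSq10.exists_ses (k := k) (pullback.diagonal (C ↘ Spec (CommRingCat.of k)))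
      (eff_diag hS hdim) hND hNDinv 1
    rw [one_mul] at e2
    haveI : Subsingleton (Coh.HH (HypSq10.Sq (k := k) C) (rep (PicGrp.cls ND hND)) 0) := hv
    haveI : Subsingleton (Coh.HH (HypSq10.Sq (k := k) C) T.X₂ 0) := (CurveCoh17.hequiv k e2 0).toEquiv.subsingleton
    haveI : Subsingleton (Coh.HH (HypSq10.Sq (k := k) C) T.X₁ 0) :=
      ⟨fun a b => CurveCoh17.hmap_f_injective k hT (Subsingleton.elim _ _)⟩
    exact (CurveCoh17.hequiv k e1 0).symm.toEquiv.subsingleton)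
  by_contra h
  have he := (eq_one_iff_sections (k := k) (PicGrp.cls ND hND)).2 ⟨hd, h⟩
  have h2 := HypSq10.dot_diag_diag κ hdim hκ hκ2 hg hND hNDinv
  rw [he, HypSq10.dot_one_left] at h2
  omega

/-- Pullback is injective. -/
theorem eq_one_of_pc_eq_one {c : PicLoc.PicSet S} (h : pc π c = 1) : c = 1 := by
  haveI := hS.dbl.affine
  haveI := hS.proper
  haveI : IsIntegral S := isIntegral_quot hS.dbl
  obtain ⟨ND, hND, ⟨e⟩⟩ := M2.exists_inverse (M2.isInvertible_idealMod _ (eff_diag hS hdim))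
  have hNDinv : ClSub.IsInverseOf ND (ClSub.idealMod (pullback.diagonal (C ↘ Spec (CommRingCat.of k))).ker) :=
    ⟨M2.tensorComm _ _ ≪≫ e⟩
  suffices key : ∀ b : PicLoc.PicSet S, pc π b = 1 → ¬ Van 0 b from
    (eq_one_iff_sections (k := k) c).2 ⟨key c h, key c⁻¹ (by rw [map_inv, h, inv_one])⟩
  intro b hb hvan
  have hv : Van 0 (pc π (b * ε hS hdim)) := by
    rw [map_mul, hb, one_mul, pc_ε hS hdim hND hNDinv]
    exact van_zero_diag_inv hS hdim κ hκ hκ2 hg hND hNDinv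
  have h0 := (van_of_pullback_van hS hdim hv).1
  obtain ⟨e⟩ := nonempty_hh_equiv (k := k) (eff_diag hS hdim) (fix_diag hS) hS.hk b 0
  haveI : Subsingleton (Coh.HH S (rep b) 0) := hvan
  haveI : Subsingleton (Coh.HH S (rep (b * eps (eff_diag hS hdim) (fix_diag hS))) 0) := h0
  have h1 : Van 0 (pc π b) := e.toEquiv.subsingleton
  rw [hb] at h1
  exact ((eq_one_iff_sections (k := k) (1 : PicLoc.PicSet (HypSq10.Sq (k := k) C))).1 rfl).1 h1

omit hS hκ hκ2 hg in
/-- The restriction of the diagonal to a slice is the point. -/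
theorem pc_slice_diag {ND : (HypSq10.Sq (k := k) C).Modules} (hND : PicF.IsInvertible ND)
    (hNDinv : ClSub.IsInverseOf ND (ClSub.idealMod (pullback.diagonal (C ↘ Spec (CommRingCat.of k))).ker))
    (x : Spec (CommRingCat.of k) ⟶ C) (hx : x ≫ (C ↘ Spec (CommRingCat.of k)) = 𝟙 _)
    {A : C.Modules} (hA : PicF.IsInvertible A) (hAinv : ClSub.IsInverseOf A (ClSub.idealMod x.ker))
    (m : C ⟶ HypSq10.Sq (k := k) C) (h1 : m ≫ pullback.fst _ _ = 𝟙 C)
    (h2 : m ≫ pullback.snd _ _ = (C ↘ Spec (CommRingCat.of k)) ≫ x) :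
    pc m (PicGrp.cls ND hND) = PicGrp.cls A hA := by
  haveI := CurveCartier25.smoothOfRelativeDimension_one (C ↘ Spec (CommRingCat.of k)) hdim
  have hm := HypSq10.isPullback_slice (C ↘ Spec (CommRingCat.of k)) x hx m h1 h2
  haveI : IsClosedImmersion x := MorphismProperty.of_isPullback (P := @IsClosedImmersion) hm inferInstance
  have hJ := HypSq10.isEffCartierIdeal_diag (C ↘ Spec (CommRingCat.of k))
  obtain ⟨eD⟩ := hNDinv
  obtain ⟨s, hs⟩ := Abel10.exists_locEq hJ hND eD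
  have hI := Abel10.isInvertible_point (k := k) hdim x hx
  have hh1 : pc m (PicGrp.cls ND hND) * PicGrp.cls (ClSub.idealMod x.ker) hI = 1 := by
    rw [pc, PicGrp.pullHom_cls, PicGrp.cls_mul_cls_eq_one_iff]
    exact Abel10.nonempty_iso_of_locEq (Abel10.isEffCartierIdeal_point hdim x hx) (PicLoc.isInvertible_pullback _ hND)
      (hs.pullback hm)
  exact mul_right_cancel (hh1.trans ((PicGrp.cls_mul_cls_eq_one_iff hA hI).2 hAinv).symm)

omit hS in
/-- At a Weierstrass point, `κ^*O(1) = O(2x)`. -/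
theorem lc_eq_sq (σ : C ⟶ C) (hσ : σ ≫ κ = κ) (hσ1 : σ ≠ 𝟙 C)
    (hσp : σ ≫ (C ↘ Spec (CommRingCat.of k)) = C ↘ Spec (CommRingCat.of k)) (hσσ : σ ≫ σ = 𝟙 C)
    (x : Spec (CommRingCat.of k) ⟶ C) (hx : x ≫ (C ↘ Spec (CommRingCat.of k)) = 𝟙 _) (hxW : x ≫ σ = x)
    {A : C.Modules} (hA : PicF.IsInvertible A) (hAinv : ClSub.IsInverseOf A (ClSub.idealMod x.ker)) :
    HypSq10.lc κ = PicGrp.cls A hA * PicGrp.cls A hA := by
  haveI := CurveCartier25.smoothOfRelativeDimension_one (C ↘ Spec (CommRingCat.of k)) hdim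
  haveI := HypSq10.isClosedImmersion_gr (k := k) σ hσp
  have hJ := HypSq10.isEffCartierIdeal_diag (C ↘ Spec (CommRingCat.of k))
  obtain ⟨ND, hND, ⟨eD⟩⟩ := M2.exists_inverse (M2.isInvertible_idealMod _ hJ)
  obtain ⟨N, hN, ⟨eN⟩⟩ := M2.exists_inverse (M2.isInvertible_idealMod _ (HypSq10.isEffCartierIdeal_gr (k := k) σ hσp))
  have hD : ClSub.IsInverseOf ND (ClSub.idealMod (pullback.diagonal (C ↘ Spec (CommRingCat.of k))).ker) :=
    ⟨M2.tensorComm _ _ ≪≫ eD⟩
  have hG : ClSub.IsInverseOf N (ClSub.idealMod (HypSq10.gr σ hσp).ker) := ⟨M2.tensorComm _ _ ≪≫ eN⟩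
  let m : C ⟶ HypSq10.Sq (k := k) C := pullback.lift (𝟙 C) ((C ↘ Spec (CommRingCat.of k)) ≫ x) (by simp [hx])
  have h1 : m ≫ pullback.fst _ _ = 𝟙 C := pullback.lift_fst _ _ _
  have h2 : m ≫ pullback.snd _ _ = (C ↘ Spec (CommRingCat.of k)) ≫ x := pullback.lift_snd _ _ _
  have hms : m ≫ HypSq10.shear σ hσp = m := by
    apply pullback.hom_ext
    · rw [Category.assoc, HypSq10.shear, pullback.lift_fst]
    · rw [Category.assoc, HypSq10.shear, pullback.lift_snd, ← Category.assoc, h2, Category.assoc, hxW]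
  have hd := pc_slice_diag hdim hND hD x hx hA hAinv m h1 h2
  have hn : pc m (PicGrp.cls N hN) = PicGrp.cls A hA := by
    rw [HypSq10.cls_graph_eq σ hσp hσσ hN hG hND hD, pc_comp _ _ hms, hd]
  have hF := congrArg (pc m) (HypSq10.cls_diag_mul_gr κ hdim hκ hκ2 hg hND hD σ hσ hσp hσσ hN hG hσ1)
  have hconst : pc x (HypSq10.lc κ) = 1 := AlgEquiv22.point_eq_one (k := k) _
  rw [map_mul, hd, hn, HypSq10.Fm, pow_one, map_mul, pc_comp _ _ h1, pc_comp _ _ h2, pc_id,
    ← pc_comp _ _ rfl, hconst, map_one, mul_one] at hF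
  exact hF.symm

end Groth.Agent.SymSq10

end
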