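import Groth.Agent.Lib.SymSq10.Basic
import Groth.Agent.Lib.EffCartier.Mul
import Groth.Agent.Lib.Twist.LocGen
import Groth.Agent.Lib.Twist.Pullback

/-!
# The anti-invariant part is invertible
-/

set_option autoImplicit false
set_option linter.style.haveILetI false
set_option linter.unusedSectionVars false
set_option maxHeartbeats 1000000
set_option backward.isDefEq.respectTransparency false
set_option backward.isDefEq.respectTransparency.types false

universe u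

open CategoryTheory CategoryTheory.Limits AlgebraicGeometry TopologicalSpace Opposite

noncomputable section

namespace Groth.Agent.SymSq10

theorem mem_basicOpen_iff_prime {V : Scheme.{u}} {U : V.Opens} (hU : IsAffineOpen U) (g : Γ(V, U)) {z : V} (hz : z ∈ U) :
    z ∈ V.basicOpen g ↔ g ∉ (hU.primeIdealOf ⟨z, hz⟩).asIdeal := by
  have h2 : hU.fromSpec (hU.primeIdealOf ⟨z, hz⟩) = z := hU.fromSpec_primeIdealOf _
  conv_lhs => rw [← h2]
  show hU.primeIdealOf ⟨z, hz⟩ ∈ hU.fromSpec ⁻¹ᵁ V.basicOpen g ↔ _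
  rw [hU.fromSpec_preimage_basicOpen]
  rfl

variable {X S : Scheme.{u}} {π : X ⟶ S} {τ : X ⟶ X} (d : Dbl π τ) [IsIntegral X] [IsAffineHom π]

/-- An anti-invariant section, as a function on the cover. -/
abbrev εb (U : S.Opens) (e : Γ(E d, U)) : Γ(X, π ⁻¹ᵁ U) := (ει d).app U e

/-- `I` is the ideal of the fixed locus. -/
def IsFixIdeal (I : X.IdealSheafData) : Prop :=
  ∀ (U : S.Opens) (hU : IsAffineOpen U), I.ideal ⟨π ⁻¹ᵁ U, hU.preimage π⟩ = fixIdeal (tau d.inv U)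

variable {d} {I : X.IdealSheafData} (hI : BlowUp.IsEffCartierIdeal I) (hfix : IsFixIdeal d I)
include hI hfix

/-- A local generator, anti-invariant, with an invariant denominator. -/
theorem exists_local_gen (x : S) : ∃ (U : S.Opens) (g : Γ(S, U)) (e : Γ(E d, U)), IsAffineOpen U ∧ x ∈ S.basicOpen g ∧
    Twist.LocGen e g ∧
    ∀ y ∈ fixIdeal (tau d.inv U), ∃ z, π.app U g * y = z * εb d U e := by
  obtain ⟨U, hU, hxU, -⟩ := exists_isAffineOpen_mem_and_subset (U := (⊤ : S.Opens)) (x := x) trivial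
  obtain ⟨z, rfl⟩ := d.surj x
  have hV := hU.preimage π
  haveI : Nonempty (π ⁻¹ᵁ U : X.Opens) := ⟨⟨z, hxU⟩⟩
  set P := (hV.primeIdealOf ⟨z, hxU⟩).asIdeal
  obtain ⟨W, hzW, hWV, f, hf⟩ := EffCartier.exists_isEqn hI (W := π ⁻¹ᵁ U) hxU
  obtain ⟨h, hle, hzh⟩ := hV.exists_basicOpen_le (V := W.1) ⟨z, hzW⟩ hxU
  have hh : h ∉ P := (mem_basicOpen_iff_prime hV h hxU).1 hzh
  let D : X.affineOpens := X.affineBasicOpen (U := ⟨π ⁻¹ᵁ U, hV⟩) h
  let f' : Γ(X, D.1) := X.presheaf.map (homOfLE hle).op f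
  have hD : I.ideal D = Ideal.span {f'} := by
    rw [← I.map_ideal (U := D) (V := W) hle, hf.ideal_eq, Ideal.map_span, Set.image_singleton]
    rfl
  have hf' : f' ≠ 0 := fun H => by
    haveI : Nonempty (W.1 : X.Opens) := ⟨⟨z, hzW⟩⟩
    haveI : Nonempty (X.basicOpen h : X.Opens) := ⟨⟨z, hzh⟩⟩
    haveI : Nonempty (D.1 : X.Opens) := ⟨⟨z, hzh⟩⟩
    exact nonZeroDivisors.ne_zero hf.mem (map_injective_of_isIntegral X (homOfLE hle) (H.trans (map_zero _).symm))
  letI : Algebra Γ(X, π ⁻¹ᵁ U) Γ(X, D.1) := (X.presheaf.map (homOfLE (X.basicOpen_le h)).op).hom.toAlgebra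
  haveI : IsLocalization.Away h Γ(X, D.1) := hV.isLocalization_basicOpen h
  have hID : I.ideal D = (fixIdeal (tau d.inv U)).map (algebraMap Γ(X, π ⁻¹ᵁ U) Γ(X, D.1)) := by
    rw [← hfix U hU]
    exact (I.map_ideal (U := D) (V := ⟨π ⁻¹ᵁ U, hV⟩) (X.basicOpen_le h)).symm
  have hne : fixIdeal (tau d.inv U) ≠ ⊥ := fun H => hf' (by
    have hm : f' ∈ I.ideal D := hD.ge (Ideal.mem_span_singleton_self f')
    rw [hID, H, Ideal.map_bot] at hm
    exact hm)
  obtain ⟨⟨⟨c, hcI⟩, ⟨t, n, rfl⟩⟩, hc⟩ := (IsLocalization.mem_map_algebraMap_iff (Submonoid.powers h) _).1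
    (hID ▸ hD.ge (Ideal.mem_span_singleton_self f'))
  obtain ⟨G, hG⟩ : (fixIdeal (tau d.inv U)).FG := (hfix U hU) ▸ EffCartier.fg_ideal hI ⟨π ⁻¹ᵁ U, hV⟩
  have hpt : ∀ y ∈ fixIdeal (tau d.inv U), ∃ (N : ℕ) (r : Γ(X, π ⁻¹ᵁ U)), h ^ N * y = r * c := fun y hy => by
    obtain ⟨r, hr⟩ := Ideal.mem_span_singleton'.1 (hD.le (hID ▸ Ideal.mem_map_of_mem _ hy) :
      algebraMap Γ(X, π ⁻¹ᵁ U) Γ(X, D.1) y ∈ Ideal.span {f'})
    obtain ⟨⟨r₀, ⟨t, m, rfl⟩⟩, hr₀⟩ := IsLocalization.surj (Submonoid.powers h) r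
    dsimp only at hc hr₀
    obtain ⟨⟨u, j, rfl⟩, hu⟩ := (IsLocalization.eq_iff_exists (Submonoid.powers h) Γ(X, D.1)
      (x := h ^ (n + m) * y) (y := r₀ * c)).1 (by
        rw [map_mul, map_mul, ← hr, ← hr₀, ← hc, pow_add, map_mul]
        ring)
    exact ⟨j + (n + m), h ^ j * r₀, by rw [pow_add]; linear_combination hu⟩
  obtain ⟨N, hN⟩ : ∃ N, ∀ y ∈ fixIdeal (tau d.inv U), ∃ r, h ^ N * y = r * c := by
    choose N r hr using hpt
    refine ⟨(G.attach.sup fun y => N y.1 (hG ▸ Submodule.subset_span y.2)), fun y hy => ?_⟩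
    set M := G.attach.sup fun y => N y.1 (hG ▸ Submodule.subset_span y.2)
    rw [← hG] at hy
    induction hy using Submodule.span_induction with
    | mem y hy =>
      have hle' := Finset.le_sup (f := fun y : {y // y ∈ G} => N y.1 (hG ▸ Submodule.subset_span y.2))
        (Finset.mem_attach G ⟨y, hy⟩)
      refine ⟨h ^ (M - N y (hG ▸ Submodule.subset_span hy)) * r y (hG ▸ Submodule.subset_span hy), ?_⟩
      rw [mul_assoc, ← hr, ← mul_assoc, ← pow_add, Nat.sub_add_cancel hle']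
    | zero => exact ⟨0, by simp⟩
    | add a b _ _ ha hb =>
      obtain ⟨ra, ea⟩ := ha
      obtain ⟨rb, eb⟩ := hb
      exact ⟨ra + rb, by linear_combination ea + eb⟩
    | smul t a _ ha =>
      obtain ⟨ra, ea⟩ := ha
      exact ⟨t * ra, by rw [smul_eq_mul]; linear_combination t * ea⟩
  have hhN : h ^ N ∉ P := fun H => hh (Ideal.IsPrime.mem_of_pow_mem inferInstance N H)
  obtain ⟨a, g₀, ha, haI, ha0, hg, hgP, hgen⟩ := exists_anti_gen (tau_tau d.inv d.invol U) P hhN hcI hN hne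
  obtain ⟨g, rfl⟩ := d.fixed U g₀ hg
  obtain ⟨e, rfl⟩ := exists_ει d U ha
  refine ⟨U, g, e, hU, ?_, ⟨fun y => ?_, fun r hr => ⟨0, ?_⟩⟩, hgen⟩
  · have h1 : z ∈ π ⁻¹ᵁ S.basicOpen g := by
      rw [Scheme.preimage_basicOpen]
      exact (mem_basicOpen_iff_prime hV _ hxU).2 hgP
    exact h1
  · obtain ⟨v, hv⟩ := d.two U
    have hy := tau_ει d U y
    obtain ⟨q, hq⟩ := hgen _ (anti_mem_fixIdeal (v := π.app U v)
      (by rw [← map_ofNat (π.app U).hom 2, ← map_mul, hv, map_one]) (tau_app d.inv U v) hy)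
    obtain ⟨r, rfl⟩ := d.fixed U q (exists_invariant_coeff ha ha0 hg hy hq)
    refine ⟨1, r, ει_injective d U ?_⟩
    rw [pow_one, Scheme.Modules.Hom.app_smul, Scheme.Modules.Hom.app_smul]
    exact hq
  · have h1 := congrArg ((ει d).app U) hr
    rw [Scheme.Modules.Hom.app_smul, map_zero] at h1
    rw [pow_zero, one_mul]
    refine d.inj U ?_
    rw [map_zero]
    exact (mul_eq_zero.1 (show π.app U r * εb d U e = 0 from h1)).resolve_right ha0

/-- The anti-invariant part is invertible. -/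
theorem isInvertible_E : PicF.IsInvertible (E d) := fun x => by
  obtain ⟨U, g, e, hU, hx, hgen, -⟩ := exists_local_gen hI hfix x
  haveI := isQCoh_E d
  exact ⟨S.basicOpen g, hx, Twist.nonempty_restrict_iso _ _ _ (Twist.isGen_of_locGen (E d) hU hgen)⟩

end Groth.Agent.SymSq10

end
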