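import Groth.Agent.Lib.SymSq10.Setup
import Groth.Agent.Lib.SymSq10.Coh
import Groth.Agent.Lib.HypSq10.Num
import Groth.Agent.Lib.OrbitTop19.Smooth
import Groth.Agent.Lib.GeomIrr18.Scheme

/-!
# The symmetric square of a hyperelliptic curve
-/

set_option autoImplicit false
set_option linter.style.haveILetI false
set_option linter.unusedSectionVars false
set_option maxHeartbeats 2000000
set_option backward.isDefEq.respectTransparency false
set_option backward.isDefEq.respectTransparency.types false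

universe u

open CategoryTheory CategoryTheory.Limits AlgebraicGeometry TopologicalSpace Opposite

noncomputable section

namespace Groth.Agent.SymSq10

open Groth.Agent.Abel10 (pc pc_comp pc_id)
open Groth.Agent.HypSq10 (chi hh Van deg rep cls_rep)

noncomputable local instance instLawMain (Y : Scheme.{u}) : PicGrp.Law Y := M2.law Y

attribute [local instance] HypSq10.overSq

variable {k : Type u} [Field k] [IsAlgClosed k] {C : Scheme.{u}} [C.Over (Spec (CommRingCat.of k))]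
  [IsProper (C ↘ Spec (CommRingCat.of k))] [Smooth (C ↘ Spec (CommRingCat.of k))] [IsIntegral C]

instance isIntegral_sq : IsIntegral (HypSq10.Sq (k := k) C) := by
  haveI : GeometricallyIrreducible (C ↘ Spec (CommRingCat.of k)) := GeomIrr.geometricallyIrreducible_of_isSepClosed _
  haveI : IrreducibleSpace (HypSq10.Sq (k := k) C) :=
    inferInstanceAs (IrreducibleSpace (pullback (C ↘ Spec (CommRingCat.of k)) (C ↘ Spec (CommRingCat.of k)) : Scheme.{u}))
  haveI : AlgebraicGeometry.IsReduced (HypSq10.Sq (k := k) C) :=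
    OrbitTop19.isReduced_of_smooth ((HypSq10.Sq (k := k) C) ↘ Spec (CommRingCat.of k))
  exact isIntegral_of_irreducibleSpace_of_isReduced _

/-- The setting of the symmetric square. -/
structure IsSymSq {S : Scheme.{u}} [S.Over (Spec (CommRingCat.of k))] (π : HypSq10.Sq (k := k) C ⟶ S) : Prop where
  dbl : Dbl π (pullbackSymmetry (C ↘ Spec (CommRingCat.of k)) (C ↘ Spec (CommRingCat.of k))).hom
  hk : π ≫ (S ↘ Spec (CommRingCat.of k)) = (HypSq10.Sq (k := k) C) ↘ Spec (CommRingCat.of k)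
  proper : IsProper (S ↘ Spec (CommRingCat.of k))
  dim : topologicalKrullDim S ≤ ((2 : ℕ) : WithBot ℕ∞)

theorem isSymSq (h2 : (2 : k) ≠ 0) (hdim : topologicalKrullDim C = 1) {S : Scheme.{u}}
    {ρ : ULift.{u} (Equiv.Perm (Fin 2)) →* Aut (HypSq10.Sq (k := k) C)}
    (hρ : (ρ (ULift.up (Equiv.swap 0 1))).hom =
      (pullbackSymmetry (C ↘ Spec (CommRingCat.of k)) (C ↘ Spec (CommRingCat.of k))).hom)
    {π : HypSq10.Sq (k := k) C ⟶ S} (hπ : SGA1.IsQuot ρ π) {q : S ⟶ Spec (CommRingCat.of k)}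
    (hq : π ≫ q = pullback.fst (C ↘ Spec (CommRingCat.of k)) (C ↘ Spec (CommRingCat.of k)) ≫
      (C ↘ Spec (CommRingCat.of k))) :
    letI : S.Over (Spec (CommRingCat.of k)) := ⟨q⟩
    IsSymSq π :=
  letI : S.Over (Spec (CommRingCat.of k)) := ⟨q⟩
  haveI := hπ.affine
  { dbl := dbl hρ hπ h2 q
    hk := hq
    proper := isProper_q hπ hq
    dim := dim_quot hπ (HypSq10.dim_sq (k := k) hdim) }

variable {S : Scheme.{u}} [S.Over (Spec (CommRingCat.of k))] {π : HypSq10.Sq (k := k) C ⟶ S}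
  (hS : IsSymSq π) (hdim : topologicalKrullDim C = 1)
include hS hdim

theorem eff_diag : BlowUp.IsEffCartierIdeal (pullback.diagonal (C ↘ Spec (CommRingCat.of k))).ker :=
  haveI := CurveCartier25.smoothOfRelativeDimension_one (C ↘ Spec (CommRingCat.of k)) hdim
  HypSq10.isEffCartierIdeal_diag (C ↘ Spec (CommRingCat.of k))

omit hdim in
theorem fix_diag : haveI := hS.dbl.affine
    IsFixIdeal hS.dbl (pullback.diagonal (C ↘ Spec (CommRingCat.of k))).ker :=
  haveI := hS.dbl.affine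
  isFixIdeal_diag hS.dbl

/-- The class of the anti-invariant part of the direct image of the structure sheaf. -/
def ε : PicLoc.PicSet S :=
  haveI := hS.dbl.affine
  eps (eff_diag hS hdim) (fix_diag hS)

theorem van_of_pullback_van {c : PicLoc.PicSet S} {n : ℕ} (h : Van n (pc π c)) :
    Van n c ∧ Van n (c * ε hS hdim) :=
  haveI := hS.dbl.affine
  van_of_pullback (k := k) (eff_diag hS hdim) (fix_diag hS) hS.hk h

theorem hh_pc (c : PicLoc.PicSet S) (n : ℕ) : hh k n (pc π c) = hh k n c + hh k n (c * ε hS hdim) :=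
  haveI := hS.dbl.affine
  haveI := hS.proper
  hh_pullback (eff_diag hS hdim) (fix_diag hS) hS.hk c n

theorem sdot_pc (a b : PicLoc.PicSet S) : HypSq10.dot (k := k) (pc π a) (pc π b) = 2 * sdot k a b :=
  haveI := hS.dbl.affine
  haveI := hS.proper
  sdot_pullback (eff_diag hS hdim) (fix_diag hS) hS.hk (HypSq10.dim_sq (k := k) hdim) hS.dim a b

variable (κ : C ⟶ CohB1.ProjSpace 1 k) [IsFinite κ] [Flat κ]
  (hκ : κ ≫ CohB1.ProjSpace.toSpec 1 k = C ↘ Spec (CommRingCat.of k))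
  (hκ2 : ∀ y : ↥(CohB1.ProjSpace 1 k), κ.finrank y = 2) (hg : 2 ≤ Curv2.genus k C)
  {ND : (HypSq10.Sq (k := k) C).Modules} (hND : PicF.IsInvertible ND)
  (hNDinv : ClSub.IsInverseOf ND (ClSub.idealMod (pullback.diagonal (C ↘ Spec (CommRingCat.of k))).ker))
  (σ : C ⟶ C) (hσ : σ ≫ κ = κ) (hσp : σ ≫ (C ↘ Spec (CommRingCat.of k)) = C ↘ Spec (CommRingCat.of k))
  (hσσ : σ ≫ σ = 𝟙 C) {N : (HypSq10.Sq (k := k) C).Modules} (hN : PicF.IsInvertible N)
  (hNinv : ClSub.IsInverseOf N (ClSub.idealMod (HypSq10.gr σ hσp).ker))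

include hNDinv in
theorem pc_ε : pc π (ε hS hdim) = (PicGrp.cls ND hND)⁻¹ := by
  haveI := hS.dbl.affine
  have h := (PicGrp.cls_mul_cls_eq_one_iff hND (M2.isInvertible_idealMod _ (eff_diag hS hdim))).2 hNDinv
  rw [ε, pc_eps]
  exact eq_inv_of_mul_eq_one_right h

include hκ hκ2 hg hσ hσσ hN hNinv

/-- The Euler characteristic on the symmetric square. -/
theorem four_mul_chi (c : PicLoc.PicSet S) :
    4 * chi k c = 2 * chi k (pc π c) +
      deg k (pc (pullback.diagonal (C ↘ Spec (CommRingCat.of k))) (pc π c)) - 2 * ((Curv2.genus k C : ℤ) - 1) := by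
  haveI := hS.dbl.affine
  haveI := hS.proper
  haveI := CurveCartier25.smoothOfRelativeDimension_one (C ↘ Spec (CommRingCat.of k)) hdim
  obtain ⟨ND, hND, ⟨e⟩⟩ := M2.exists_inverse (M2.isInvertible_idealMod _ (eff_diag hS hdim))
  have hNDinv : ClSub.IsInverseOf ND (ClSub.idealMod (pullback.diagonal (C ↘ Spec (CommRingCat.of k))).ker) :=
    ⟨M2.tensorComm _ _ ≪≫ e⟩
  have h8 := eight_mul_chi (eff_diag hS hdim) (fix_diag hS) hS.hk (HypSq10.dim_sq (k := k) hdim) hS.dim c
  have h1 : chi k (1 : PicLoc.PicSet (HypSq10.Sq (k := k) C)) = ((Curv2.genus k C : ℤ) - 1) ^ 2 := by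
    have h := HypSq10.chi_box_gr κ hdim hκ hκ2 hg σ hσ hσp hσσ hN hNinv 1 1 0
    rw [map_one, map_one, pow_zero, one_mul, one_mul, HypSq10.deg_one (k := k) hdim] at h
    rw [h]; ring
  have h3 : chi k ((PicGrp.cls ND hND)⁻¹) =
      ((Curv2.genus k C : ℤ) - 1) ^ 2 + ((Curv2.genus k C : ℤ) - 1) := by
    have hik : pullback.diagonal (C ↘ Spec (CommRingCat.of k)) ≫
        ((HypSq10.Sq (k := k) C) ↘ Spec (CommRingCat.of k)) = C ↘ Spec (CommRingCat.of k) :=
      (Category.assoc _ _ _).symm.trans ((congrArg (· ≫ (C ↘ Spec (CommRingCat.of k))) (pullback.diagonal_fst _)).trans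
        (Category.id_comp _))
    have h := HypSq10.chi_restrict _ hik (eff_diag hS hdim) hND hNDinv (PicGrp.cls ND hND)⁻¹
    rw [inv_mul_cancel, map_one, h1, HypSq10.chi_eq hdim, HypSq10.deg_one (k := k) hdim] at h
    linarith
  change 8 * chi k c = 4 * chi k (pc π c) - 2 * chi k (pc π (ε hS hdim)) +
      2 * chi k (1 : PicLoc.PicSet (HypSq10.Sq (k := k) C)) +
      HypSq10.dot (k := k) (pc π (ε hS hdim)) (pc π (ε hS hdim)) -
      2 * HypSq10.dot (k := k) (pc π c) (pc π (ε hS hdim)) at h8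
  rw [pc_ε hS hdim hND hNDinv, HypSq10.dot_inv hdim, HypSq10.dot_comm _ (PicGrp.cls ND hND)⁻¹,
    HypSq10.dot_inv hdim, HypSq10.dot_comm (pc π c), HypSq10.dot_inv hdim,
    HypSq10.dot_diag_diag κ hdim hκ hκ2 hg hND hNDinv, HypSq10.dot_diag κ hdim hκ hκ2 hg hND hNDinv, h1, h3] at h8
  linarith

omit hκ hκ2 hg hσ hσσ hN hNinv in
theorem deg_diag_box (a b : PicLoc.PicSet C) :
    deg k (pc (pullback.diagonal (C ↘ Spec (CommRingCat.of k)))
      (pc (pullback.fst (C ↘ Spec (CommRingCat.of k)) (C ↘ Spec (CommRingCat.of k))) a *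
        pc (pullback.snd (C ↘ Spec (CommRingCat.of k)) (C ↘ Spec (CommRingCat.of k))) b)) = deg k a + deg k b := by
  rw [map_mul, pc_comp _ _ (pullback.diagonal_fst _), pc_comp _ _ (pullback.diagonal_snd _), pc_id, pc_id,
    HypSq10.deg_mul hdim]

theorem deg_diag_boxN (hσ1 : σ ≠ 𝟙 C) (a b : PicLoc.PicSet C) (r : ℕ) :
    deg k (pc (pullback.diagonal (C ↘ Spec (CommRingCat.of k)))
      (pc (pullback.fst (C ↘ Spec (CommRingCat.of k)) (C ↘ Spec (CommRingCat.of k))) a *
        pc (pullback.snd (C ↘ Spec (CommRingCat.of k)) (C ↘ Spec (CommRingCat.of k))) b *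
          PicGrp.cls N hN ^ r)) = deg k a + deg k b + r * (2 * (Curv2.genus k C : ℤ) + 2) := by
  haveI := hS.dbl.affine
  obtain ⟨ND, hND, ⟨e⟩⟩ := M2.exists_inverse (M2.isInvertible_idealMod _ (eff_diag hS hdim))
  have hNDinv : ClSub.IsInverseOf ND (ClSub.idealMod (pullback.diagonal (C ↘ Spec (CommRingCat.of k))).ker) :=
    ⟨M2.tensorComm _ _ ≪≫ e⟩
  have h := HypSq10.dot_diag κ hdim hκ hκ2 hg hND hNDinv (PicGrp.cls N hN)
  rw [HypSq10.dot_comm, HypSq10.dot_gr_diag κ hdim hκ hκ2 hg hND hNDinv σ hσ hσp hσσ hN hNinv hσ1] at h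
  rw [map_mul, map_pow, HypSq10.deg_mul hdim, deg_diag_box hS hdim,
    HypSq10.deg_pow hdim, ← h]

end Groth.Agent.SymSq10

end
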