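import Groth.Agent.Lib.SymSq10.Invert
import Groth.Agent.Lib.PullBC11.Crit
import Groth.Agent.Lib.SecDiv18.Basic

/-!
# The anti-invariant part pulls back to the ideal of the fixed locus
-/

set_option autoImplicit false
set_option linter.style.haveILetI false
set_option linter.unusedSectionVars false
set_option maxHeartbeats 1000000
set_option backward.isDefEq.respectTransparency false
set_option backward.isDefEq.respectTransparency.types false

universe u

open CategoryTheory CategoryTheory.Limits AlgebraicGeometry TopologicalSpace Opposite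

noncomputable section

namespace Groth.Agent.SymSq10

variable {X S : Scheme.{u}} {π : X ⟶ S} {τ : X ⟶ X} (d : Dbl π τ) [IsIntegral X] [IsAffineHom π]

/-- The pullback of the anti-invariant part, mapped into the structure sheaf. -/
def φE : (Scheme.Modules.pullback π).obj (E d) ⟶ Coh.structureModule X :=
  ((Scheme.Modules.pullbackPushforwardAdjunction π).homEquiv _ _).symm (ει d)

theorem φE_pullSec (U : S.Opens) (e : Γ(E d, U)) :
    ((φE d).app (π ⁻¹ᵁ U) (M2.pullSec π (E d) e) : Γ(X, π ⁻¹ᵁ U)) = εb d U e :=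
  PullBC11.homEquiv_symm_pullSec (θ := ει d) e

variable {d} {I : X.IdealSheafData} (hI : BlowUp.IsEffCartierIdeal I) (hfix : IsFixIdeal d I)
include hI hfix

theorem nonempty_pullback_E : Nonempty ((Scheme.Modules.pullback π).obj (E d) ≅ ClSub.idealMod I) := by
  have key : ∀ z : X, ∃ (W : X.affineOpens) (t : Γ((Scheme.Modules.pullback π).obj (E d), W.1)) (a : Γ(X, W.1)),
      z ∈ W.1 ∧ Twist.IsGen _ W.1 t ∧ (φE d).app W.1 t = a ∧ a ≠ 0 ∧ I.ideal W = Ideal.span {a} := by
    intro z
    obtain ⟨U, g, e, hU, hx, hgen, hspan⟩ := exists_local_gen hI hfix (π z)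
    haveI := isQCoh_E d
    have hV := hU.preimage π
    haveI : Nonempty (π ⁻¹ᵁ U : X.Opens) := ⟨⟨z, S.basicOpen_le g hx⟩⟩
    let D : X.affineOpens := ⟨π ⁻¹ᵁ S.basicOpen g, (hU.basicOpen g).preimage π⟩
    haveI : Nonempty (D.1 : X.Opens) := ⟨⟨z, hx⟩⟩
    have hle : D.1 ≤ π ⁻¹ᵁ U := π.preimage_mono (S.basicOpen_le g)
    let a : Γ(X, D.1) := X.presheaf.map (homOfLE hle).op (εb d U e)
    refine ⟨D, M2.pullSec π (E d) (M1.mres (E d) (S.basicOpen_le g) e), a, hx,
      (Twist.isGen_of_locGen (E d) hU hgen).pullback π, ?_, ?_, ?_⟩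
    · refine (φE_pullSec d (S.basicOpen g) _).trans ?_
      exact M1.map_app_eq (ει d) (S.basicOpen_le g) e
    · intro H
      have h0 : εb d U e = 0 := map_injective_of_isIntegral X (homOfLE hle) (H.trans (map_zero _).symm)
      have h1 : (1 : Γ(S, U)) • e = 0 := ει_injective d U (by rw [one_smul, map_zero]; exact h0)
      obtain ⟨N, hN⟩ := hgen.2 1 h1
      rw [mul_one] at hN
      have hN' := congrArg (S.presheaf.map (homOfLE (S.basicOpen_le g)).op) hN
      rw [map_pow, map_zero] at hN'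
      have hu := ((S.toRingedSpace.isUnit_res_basicOpen g).pow N)
      haveI : Nonempty (S.basicOpen g : S.Opens) := ⟨⟨π z, hx⟩⟩
      have hu0 : IsUnit (0 : Γ(S, S.basicOpen g)) := hN' ▸ hu
      have h01 := congrArg (π.app (S.basicOpen g)) (isUnit_zero_iff.1 hu0)
      rw [map_zero, map_one] at h01
      haveI : Nonempty (π ⁻¹ᵁ S.basicOpen g : X.Opens) := ⟨⟨z, hx⟩⟩
      exact zero_ne_one h01
    · rw [← I.map_ideal (U := D) (V := ⟨π ⁻¹ᵁ U, hV⟩) hle, hfix U hU]
      refine le_antisymm (Ideal.map_le_iff_le_comap.2 fun y hy => ?_) ?_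
      · obtain ⟨q, hq⟩ := hspan y hy
        rw [Ideal.mem_comap, Ideal.mem_span_singleton']
        have hu : IsUnit (X.presheaf.map (homOfLE hle).op (π.app U g)) := by
          have h := (S.toRingedSpace.isUnit_res_basicOpen g).map (π.app (S.basicOpen g)).hom
          have e2 : π.app (S.basicOpen g) (S.presheaf.map (homOfLE (S.basicOpen_le g)).op g) =
              X.presheaf.map (homOfLE hle).op (π.app U g) :=
            ConcreteCategory.congr_hom (π.naturality (homOfLE (S.basicOpen_le g)).op) g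
          exact e2 ▸ h
        obtain ⟨w, hw⟩ := hu
        refine ⟨↑w⁻¹ * X.presheaf.map (homOfLE hle).op q, ?_⟩
        have h2 := congrArg (X.presheaf.map (homOfLE hle).op) hq
        rw [map_mul, map_mul, ← hw] at h2
        show ↑w⁻¹ * X.presheaf.map (homOfLE hle).op q * X.presheaf.map (homOfLE hle).op (εb d U e) =
          X.presheaf.map (homOfLE hle).op y
        rw [mul_assoc, ← h2, Units.inv_mul_cancel_left]
      · rw [Ideal.span_le, Set.singleton_subset_iff]
        obtain ⟨v, hv⟩ := d.two U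
        exact Ideal.mem_map_of_mem _ (anti_mem_fixIdeal (v := π.app U v)
          (by rw [← map_ofNat (π.app U).hom 2, ← map_mul, hv, map_one]) (tau_app d.inv U v) (tau_ει d U e))
  choose W t a hzW ht hφ ha hI' using key
  haveI : Mono (φE d) := by
    refine (M1.mono_iff_app _).2 fun U s s' h => ?_
    rw [← sub_eq_zero] at h ⊢
    rw [← map_sub] at h
    refine M1.modules_eq_of_locally_eq _ U (fun z : U => U ⊓ (W z.1).1) (fun _ => inf_le_left)
      (fun z hz => Opens.mem_iSup.2 ⟨⟨z, hz⟩, hz, hzW z⟩) _ 0 fun z => ?_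
    obtain ⟨r, hr⟩ := (ht z.1 (U ⊓ (W z.1).1) inf_le_right).2 (M1.mres _ inf_le_left (s - s'))
    rw [← hr]
    have h1 : (φE d).app (U ⊓ (W z.1).1) (M1.mres _ (inf_le_left : U ⊓ (W z.1).1 ≤ U) (s - s')) = 0 :=
      (M1.map_app_eq _ _ _).trans ((congrArg _ h).trans (map_zero _))
    rw [← hr, Scheme.Modules.Hom.app_smul] at h1
    erw [M1.map_app_eq, hφ] at h1
    haveI : Nonempty (U ⊓ (W z.1).1 : X.Opens) := ⟨⟨z.1, z.2, hzW z.1⟩⟩
    haveI : Nonempty ((W z.1).1 : X.Opens) := ⟨⟨z.1, hzW z.1⟩⟩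
    have h2 : r = 0 := (mul_eq_zero.1 (show r * X.presheaf.map
        (homOfLE (inf_le_right : U ⊓ (W z.1).1 ≤ (W z.1).1)).op (a z.1) = 0 from h1)).resolve_right
      fun H => ha z.1 (map_injective_of_isIntegral X (homOfLE inf_le_right) (H.trans (map_zero _).symm))
    show r • _ = _
    rw [h2, zero_smul]
    exact (map_zero _).symm
  haveI : Coh.IsQCoh ((Scheme.Modules.pullback π).obj (E d)) :=
    Twist.isQCoh_of_isInvertible (PicLoc.isInvertible_pullback π (isInvertible_E hI hfix))
  obtain ⟨i⟩ := SecDiv.nonempty_iso_idealMod (φE d)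
  have hJ : SecDiv.ofMono (φE d) = I := EffCartier.eq_of_forall_exists fun z => ⟨W z, hzW z, by
    rw [hI']
    refine le_antisymm ?_ ?_
    · rintro _ ⟨b, rfl⟩
      obtain ⟨r, hr⟩ := (ht z (W z).1 le_rfl).2 b
      rw [Ideal.mem_span_singleton']
      refine ⟨r, ?_⟩
      show r * a z = (φE d).app (W z).1 b
      rw [← hr, Scheme.Modules.Hom.app_smul]
      erw [M1.mres_id, hφ]
      rfl
    · rw [Ideal.span_le, Set.singleton_subset_iff]
      exact ⟨t z, hφ z⟩⟩
  exact ⟨hJ ▸ i⟩

end Groth.Agent.SymSq10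

end
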