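import Groth.Agent.Lib.SymSq10.Pull
import Groth.Agent.Lib.IsQuot25.Props
import Groth.Agent.Lib.H12.Dim
import Groth.Agent.Lib.HypSq10.DiagP1

/-!
# The symmetric square as a quotient by the swap
-/

set_option autoImplicit false
set_option linter.style.haveILetI false
set_option linter.unusedSectionVars false
set_option maxHeartbeats 1000000
set_option backward.isDefEq.respectTransparency false
set_option backward.isDefEq.respectTransparency.types false

universe u

open CategoryTheory CategoryTheory.Limits AlgebraicGeometry TopologicalSpace Opposite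

noncomputable section

namespace Groth.Agent.SymSq10

variable {k : Type u} [Field k] {C : Scheme.{u}} {f : C ⟶ Spec (CommRingCat.of k)} {S : Scheme.{u}}
  {π : pullback f f ⟶ S} {q : S ⟶ Spec (CommRingCat.of k)} {ρ : ULift.{u} (Equiv.Perm (Fin 2)) →* Aut (pullback f f)}

variable (f) in
theorem symm_invol : (pullbackSymmetry f f).hom ≫ (pullbackSymmetry f f).hom = 𝟙 _ := by
  apply pullback.hom_ext <;> simp

variable (hρ : (ρ (ULift.up (Equiv.swap 0 1))).hom = (pullbackSymmetry f f).hom) (hπ : SGA1.IsQuot ρ π)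

include hρ hπ in
theorem dbl (h2 : (2 : k) ≠ 0) (q : S ⟶ Spec (CommRingCat.of k)) : Dbl π (pullbackSymmetry f f).hom where
  affine := hπ.affine
  inv := hρ ▸ hπ.inv _
  invol := symm_invol f
  inj := hπ.injective
  fixed U a ha := (hπ.range_iff U a).2 fun g => by
    obtain ⟨p⟩ := g
    have hp : p = 1 ∨ p = Equiv.swap 0 1 := by revert p; decide
    rcases hp with rfl | rfl
    · exact ConcreteCategory.congr_hom (IsQuot25.actHom_one hπ.inv U) a
    · exact (ConcreteCategory.congr_hom (IsQuot25.appLE_eq hρ _ _ _) a).trans ha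
  two U := by
    let φ : k →+* Γ(S, U) := (S.presheaf.map (homOfLE (le_top : U ≤ ⊤)).op).hom.comp (Coh.toGlobal q)
    exact ⟨φ (2⁻¹ : k), by rw [← map_ofNat φ 2, ← map_mul, inv_mul_cancel₀ h2, map_one]⟩
  surj := IsQuot25.surjective hπ

variable (d : Dbl π (pullbackSymmetry f f).hom) [IsAffineHom π] [IsSeparated f]

/-- The diagonal is cut out by the differences. -/
theorem isFixIdeal_diag : IsFixIdeal d (pullback.diagonal f).ker := fun U hU => by
  let V := π ⁻¹ᵁ U
  have hV : IsAffineOpen V := hU.preimage π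
  let τ := (pullbackSymmetry f f).hom
  have hΔ : pullback.diagonal f ≫ τ = pullback.diagonal f := by
    apply pullback.hom_ext <;> simp [τ]
  rw [Scheme.Hom.ker_apply]
  refine le_antisymm (fun b hb => ?_) (Ideal.span_le.2 ?_)
  · let Q : CommRingCat.{u} := CommRingCat.of (Γ(pullback f f, V) ⧸ fixIdeal (tau d.inv U))
    let q : Γ(pullback f f, V) ⟶ Q := CommRingCat.ofHom (Ideal.Quotient.mk _)
    have hq : τ.appLE V V (preimage_le d.inv U) ≫ q = q := by
      ext a
      exact (Ideal.Quotient.eq.2 (Ideal.subset_span (Set.mem_range_self a) : a - tau d.inv U a ∈ fixIdeal (tau d.inv U))).symm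
    let w : Spec Q ⟶ pullback f f := Spec.map q ≫ hV.fromSpec
    have hwτ : w ≫ τ = w := by
      show (Spec.map q ≫ hV.fromSpec) ≫ τ = Spec.map q ≫ hV.fromSpec
      rw [Category.assoc, ← IsAffineOpen.SpecMap_appLE_fromSpec τ hV hV (preimage_le d.inv U), ← Category.assoc,
        ← Spec.map_comp, hq]
    have h12 : w ≫ pullback.fst f f = w ≫ pullback.snd f f := by
      conv_lhs => rw [← hwτ, Category.assoc, pullbackSymmetry_hom_comp_fst]
    have hfac : (w ≫ pullback.fst f f) ≫ pullback.diagonal f = w := by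
      apply pullback.hom_ext
      · simp
      · simp [h12]
    have hw : ∀ y, w y ∈ V := fun y => by
      rw [← SetLike.mem_coe, ← hV.range_fromSpec]
      exact ⟨Spec.map q y, rfl⟩
    have eW : (⊤ : (Spec Q).Opens) ≤ w ⁻¹ᵁ V := fun y _ => hw y
    have happ : w.appLE V ⊤ eW = q ≫ (Scheme.ΓSpecIso Q).inv := by
      rw [← Scheme.Hom.appLE_comp_appLE (Spec.map q) hV.fromSpec V ⊤ ⊤ (by rw [hV.fromSpec_preimage_self]) le_top]
      have h1 : hV.fromSpec.appLE V ⊤ (by rw [hV.fromSpec_preimage_self]) =
          (Scheme.ΓSpecIso Γ(pullback f f, V)).inv := by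
        rw [Scheme.Hom.appLE, hV.fromSpec_app_self, Category.assoc, ← Functor.map_comp]
        simp
      have h2 : (Spec.map q).appLE ⊤ ⊤ le_top = (Spec.map q).appTop := by
        rw [Scheme.Hom.appTop, Scheme.Hom.app_eq_appLE]
        rfl
      rw [h1, h2, ← Scheme.ΓSpecIso_inv_naturality]
    have e3 : (⊤ : (Spec Q).Opens) ≤ (w ≫ pullback.fst f f) ⁻¹ᵁ (pullback.diagonal f ⁻¹ᵁ V) := by
      rw [← Scheme.Hom.comp_preimage, hfac]
      exact eW
    have h4 := ConcreteCategory.congr_hom (Scheme.Hom.appLE_comp_appLE (w ≫ pullback.fst f f) (pullback.diagonal f)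
      V (pullback.diagonal f ⁻¹ᵁ V) ⊤ le_rfl e3) b
    rw [CommRingCat.comp_apply, ← Scheme.Hom.app_eq_appLE, RingHom.mem_ker.1 hb, map_zero] at h4
    simp only [hfac] at h4
    rw [happ] at h4
    exact Ideal.Quotient.eq_zero_iff_mem.1
      ((Scheme.ΓSpecIso Q).commRingCatIsoToRingEquiv.symm.injective (h4.symm.trans (map_zero _).symm))
  · rintro _ ⟨b, rfl⟩
    show (pullback.diagonal f).app V (b - tau d.inv U b) = 0
    have h : τ.appLE V V (preimage_le d.inv U) ≫ (pullback.diagonal f).app V = (pullback.diagonal f).app V := by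
      rw [Scheme.Hom.app_eq_appLE, Scheme.Hom.appLE_comp_appLE, IsQuot25.appLE_eq hΔ]
    rw [map_sub, sub_eq_zero]
    exact (ConcreteCategory.congr_hom h b).symm

include hπ in
theorem isProper_q (hq : π ≫ q = pullback.fst f f ≫ f) [IsProper f] : IsProper q := by
  haveI : IsProper (π ≫ q) := hq ▸ inferInstanceAs (IsProper (pullback.fst f f ≫ f))
  haveI : IsSeparated q := (IsQuot25.isSeparated_iff hπ q).1 inferInstance
  haveI : LocallyOfFiniteType q := IsQuot25.locallyOfFiniteType hπ q
  haveI : QuasiCompact q := IsQuot25.quasiCompact hπ q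
  haveI : Surjective π := ⟨IsQuot25.surjective hπ⟩
  haveI : UniversallyClosed q := UniversallyClosed.of_comp_surjective π q
  exact { }

include d in
theorem isIntegral_quot [IsIntegral (pullback f f)] : IsIntegral S := by
  haveI : AlgebraicGeometry.IsReduced S := ⟨fun U => isReduced_of_injective (π.app U).hom (d.inj U)⟩
  haveI : IrreducibleSpace S := by
    haveI : Nonempty S := ⟨π (Classical.arbitrary _)⟩
    haveI : PreirreducibleSpace S := ⟨by
      simpa [d.surj.range_eq] using
        (PreirreducibleSpace.isPreirreducible_univ (X := (pullback f f : Scheme.{u}))).image π π.continuous.continuousOn⟩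
    exact ⟨inferInstance⟩
  exact isIntegral_of_irreducibleSpace_of_isReduced S

include hπ in
theorem dim_quot {n : WithBot ℕ∞} (h : topologicalKrullDim (pullback f f : Scheme.{u}) ≤ n) :
    topologicalKrullDim S ≤ n :=
  (H12.topologicalKrullDim_le_of_surjective_of_lift π (IsQuot25.surjective hπ)
    (Or.inl (IsQuot25.isClosedMap hπ).specializingMap)).trans h

end Groth.Agent.SymSq10

end
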