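import Groth.Agent.Lib.SymSq10.Main
import Groth.Agent.Lib.PushFin12.Basic
import Groth.Agent.Lib.DetSES2.Free
import Groth.Agent.Lib.AlgSpDescent.FppfComp
import Groth.Agent.Lib.SmDim19.RelDimVariety

/-!
# The symmetric square is smooth
-/

set_option autoImplicit false
set_option linter.style.haveILetI false
set_option linter.unusedSectionVars false
set_option maxHeartbeats 1000000
set_option backward.isDefEq.respectTransparency false
set_option backward.isDefEq.respectTransparency.types false

universe u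

open CategoryTheory CategoryTheory.Limits AlgebraicGeometry TopologicalSpace Opposite

noncomputable section

namespace Groth.Agent.SymSq10

attribute [local instance] HypSq10.overSq

variable {k : Type u} [Field k] [IsAlgClosed k] {C : Scheme.{u}} [C.Over (Spec (CommRingCat.of k))]
  [IsProper (C ↘ Spec (CommRingCat.of k))] [Smooth (C ↘ Spec (CommRingCat.of k))] [IsIntegral C]
  {S : Scheme.{u}} [S.Over (Spec (CommRingCat.of k))] {π : HypSq10.Sq (k := k) C ⟶ S}
  (hS : IsSymSq π) (hdim : topologicalKrullDim C = 1)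
include hS hdim

theorem isFinite_flat_π : IsFinite π ∧ Flat π ∧ LocallyOfFinitePresentation π := by
  haveI := hS.dbl.affine
  refine (PushFin12.finLocFree_iff π).1 ⟨hS.dbl.affine, ?_⟩
  obtain ⟨s⟩ := nonempty_splitting hS.dbl
  have h1 : FlatMod.IsFinLocFreeOfRank 1 (seq hS.dbl).X₁ :=
    (M2.isInvertible_iff_isFinLocFreeOfRank_one _).1 (PicLoc.isInvertible_structureModule S)
  have h3 : FlatMod.IsFinLocFreeOfRank 1 (seq hS.dbl).X₃ :=
    (M2.isInvertible_iff_isFinLocFreeOfRank_one _).1 (isInvertible_E (eff_diag hS hdim) (fix_diag hS))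
  have h := DetSES2.isFinLocFreeOfRank_middle (seq hS.dbl) s.shortExact (isQCoh_P hS.dbl) h1 h3
  intro x
  obtain ⟨U, hxU, hU⟩ := h x
  exact ⟨U, 1 + 1, hxU, hU⟩

theorem surjective_π : Surjective π := ⟨hS.dbl.surj⟩

theorem smooth_quot : Smooth (S ↘ Spec (CommRingCat.of k)) := by
  obtain ⟨-, hf, hl⟩ := isFinite_flat_π hS hdim
  refine AlgSpDescent.smooth_of_fppf_comp π _ hf hl (surjective_π hS hdim) ?_
  rw [hS.hk]
  infer_instance

theorem dim_eq_two : topologicalKrullDim S = ((2 : ℕ) : WithBot ℕ∞) := by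
  refine le_antisymm hS.dim ?_
  haveI := (isFinite_flat_π hS hdim).1
  have hX : ((2 : ℕ) : WithBot ℕ∞) ≤ topologicalKrullDim (HypSq10.Sq (k := k) C) := by
    have hg1 : VarDim.sdim (C ↘ Spec (CommRingCat.of k)) (genericPoint C) = 1 := by
      have h := VarDim.dim_eq_sdim_genericPoint (C ↘ Spec (CommRingCat.of k))
      rw [hdim] at h
      exact_mod_cast h.symm
    rw [VarDim.dim_eq_iSup_sdim (pullback.fst (C ↘ Spec (CommRingCat.of k)) (C ↘ Spec (CommRingCat.of k)) ≫
      (C ↘ Spec (CommRingCat.of k)))]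
    obtain ⟨m, hm⟩ := DimF18.exists_prod_sdim (C ↘ Spec (CommRingCat.of k)) (C ↘ Spec (CommRingCat.of k))
      (genericPoint C) (genericPoint C)
    exact le_iSup_of_le m (Nat.cast_le.2 (by omega))
  refine hX.trans ?_
  exact H12.topologicalKrullDim_le_of_eq_of_specializes π π.continuous
    fun _ _ h he => H12.eq_of_specializes_of_isIntegralHom π h he

theorem smoothTwo : SmoothOfRelativeDimension 2 (S ↘ Spec (CommRingCat.of k)) := by
  haveI := hS.proper
  haveI := hS.dbl.affine
  haveI := smooth_quot hS hdim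
  haveI : IsIntegral S := isIntegral_quot hS.dbl
  exact SmDim19.smoothOfRelativeDimension_of_smooth (S ↘ Spec (CommRingCat.of k)) 2 (dim_eq_two hS hdim)

end Groth.Agent.SymSq10

end
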