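import Groth.Agent.Lib.SymSq10.Main
import Groth.Agent.Lib.IsQuot25.Desc
import Groth.Agent.Lib.DblCov14.Invol
import Groth.Agent.Lib.DirImg11.Basic
import Groth.Agent.Lib.CurveCoh17.P1Genus

/-!
# Vanishing on the symmetric square
-/

set_option autoImplicit false
set_option linter.style.haveILetI false
set_option linter.unusedSectionVars false
set_option maxHeartbeats 2000000
set_option backward.isDefEq.respectTransparency false
set_option backward.isDefEq.respectTransparency.types false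

universe u

open CategoryTheory CategoryTheory.Limits AlgebraicGeometry TopologicalSpace Opposite

noncomputable section

namespace Groth.Agent.SymSq10

open Groth.Agent.Abel10 (pc pc_comp pc_id)
open Groth.Agent.HypSq10 (chi hh Van deg rep rep_inv cls_rep)
open Groth.Agent.CurveCoh17 (hequiv hmap hmap_comp hmap_id hmap_zero)

noncomputable local instance instLawVan (Y : Scheme.{u}) : PicGrp.Law Y := M2.law Y

attribute [local instance] HypSq10.overSq

variable {k : Type u} [Field k] [IsAlgClosed k] {C : Scheme.{u}} [C.Over (Spec (CommRingCat.of k))]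
  [IsProper (C ↘ Spec (CommRingCat.of k))] [Smooth (C ↘ Spec (CommRingCat.of k))] [IsIntegral C]
  (hdim : topologicalKrullDim C = 1)
  (κ : C ⟶ CohB1.ProjSpace 1 k) [IsFinite κ] [Flat κ]
  (hκ : κ ≫ CohB1.ProjSpace.toSpec 1 k = C ↘ Spec (CommRingCat.of k))
  (hκ2 : ∀ y : ↥(CohB1.ProjSpace 1 k), κ.finrank y = 2) (hg : 2 ≤ Curv2.genus k C)
include hdim hκ hκ2

/-- A class on `ℙ¹` with pullback of degree `> -4` has no `H¹`. -/
theorem van_one_P1 (b : PicLoc.PicSet (CohB1.ProjSpace 1 k)) (hb : 0 ≤ deg k (pc κ b)) : Van 1 b := by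
  letI : (CohB1.ProjSpace 1 k).Over (Spec (CommRingCat.of k)) := ⟨CohB1.ProjSpace.toSpec 1 k⟩
  haveI := RegExt.isIntegral_projSpace 1 k
  haveI : IsProper ((CohB1.ProjSpace 1 k) ↘ Spec (CommRingCat.of k)) := ProjSpace.isProper_toSpec 1 k
  haveI : Smooth ((CohB1.ProjSpace 1 k) ↘ Spec (CommRingCat.of k)) := ProjSpace.smooth_toSpec 1 k
  have hdimY : topologicalKrullDim (CohB1.ProjSpace 1 k) = 1 := by rw [S10829.result k 1]; rfl
  haveI : JacobsonSpace C := LocallyOfFiniteType.jacobsonSpace (C ↘ Spec (CommRingCat.of k))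
  haveI : IsNoetherian (CohB1.ProjSpace 1 k) := VB17.isNoetherian_of_over (k := k)
  haveI : LocallyOfFinitePresentation κ := inferInstance
  have hξ := CurveOm17.map_genericPoint_of_isFinite hdimY.le hdim κ
  have hd2 : κ.residueDegree (genericPoint C) = 2 := by
    rw [← CurveCoh17.finrank_genericPoint_eq_residueDegree κ hξ
      (fun x hx => AmpleFin18.preimage_genericPoint hdim.le hdimY κ hx)]
    exact hκ2 _
  have hdeg := S7640.result k C (CohB1.ProjSpace 1 k) hdim hdimY κ hκ hξ 1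
    (rep b) ((M2.isInvertible_iff_isFinLocFreeOfRank_one _).1 (rep_inv b))
  have h2 : deg k (pc κ b) = Curv2.deg k C ((Scheme.Modules.pullback κ).obj (rep b)) 1 := by
    rw [HypSq10.deg_eq (PicLoc.isInvertible_pullback κ (rep_inv b))]
    congr 1
    conv_lhs => rw [← cls_rep b]
    exact PicGrp.pullHom_cls κ _ (rep b) (rep_inv b)
  rw [hd2, ← h2, HypSq10.deg_rep] at hdeg
  refine HypSq10.van_one_of_deg (k := k) hdimY ?_
  rw [show Curv2.genus k (CohB1.ProjSpace 1 k) = 0 from CurveCoh17.genus_P1 k]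
  push_cast at hdeg ⊢
  omega

variable (σ : C ⟶ C) (hσ : σ ≫ κ = κ) (hσ1 : σ ≠ 𝟙 C)
  (hσp : σ ≫ (C ↘ Spec (CommRingCat.of k)) = C ↘ Spec (CommRingCat.of k)) (hσσ : σ ≫ σ = 𝟙 C)
  (h2 : (2 : k) ≠ 0)
  {S : Scheme.{u}} [S.Over (Spec (CommRingCat.of k))] {π : HypSq10.Sq (k := k) C ⟶ S} (hS : IsSymSq π)
include hg hσ hσ1 hσσ h2 hS

/-- The graph descends to a map from the line to the symmetric square. -/
theorem exists_line : ∃ j : CohB1.ProjSpace 1 k ⟶ S, κ ≫ j = HypSq10.gr σ hσp ≫ π ∧ IsAffineHom j ∧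
    j ≫ (S ↘ Spec (CommRingCat.of k)) = CohB1.ProjSpace.toSpec 1 k := by
  have h2' : IsUnit (2 : Γ(CohB1.ProjSpace 1 k, ⊤)) := by
    have := (Ne.isUnit h2).map (Coh.toGlobal (CohB1.ProjSpace.toSpec 1 k))
    rwa [map_ofNat] at this
  haveI : IsNoetherian (CohB1.ProjSpace 1 k) :=
    letI : (CohB1.ProjSpace 1 k).Over (Spec (CommRingCat.of k)) := ⟨CohB1.ProjSpace.toSpec 1 k⟩
    haveI : IsProper ((CohB1.ProjSpace 1 k) ↘ Spec (CommRingCat.of k)) := ProjSpace.isProper_toSpec 1 k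
    CohFound.isNoetherian_of_isProper ((CohB1.ProjSpace 1 k) ↘ Spec (CommRingCat.of k))
  haveI : LocallyOfFinitePresentation κ := inferInstance
  obtain ⟨ι, hι, hιι, hq⟩ := DblCov14.exists_involution κ hκ2 h2'
  haveI := CurveCartier25.smoothOfRelativeDimension_one (C ↘ Spec (CommRingCat.of k)) hdim
  have hgr : σ ≫ HypSq10.gr σ hσp = HypSq10.gr σ hσp ≫
      (pullbackSymmetry (C ↘ Spec (CommRingCat.of k)) (C ↘ Spec (CommRingCat.of k))).hom := by
    apply pullback.hom_ext <;> simp [HypSq10.gr, hσσ]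
  have hinvι : ι.hom ≫ HypSq10.gr σ hσp ≫ π = HypSq10.gr σ hσp ≫ π := by
    by_cases h : ι.hom = 𝟙 C
    · rw [h, Category.id_comp]
    · rw [HypEq17.involution_unique h2 hdim hg κ κ hκ hκ hκ2 hκ2 ι.hom σ hι h hσ hσ1, ← Category.assoc, hgr,
        Category.assoc, hS.dbl.inv]
  have hinv : ∀ g : Subgroup.zpowers ι, ((Subgroup.zpowers ι).subtype g).hom ≫ HypSq10.gr σ hσp ≫ π =
      HypSq10.gr σ hσp ≫ π := by
    rintro ⟨g, n, rfl⟩
    have hz : ι ^ n = 1 ∨ ι ^ n = ι := by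
      rcases Int.even_or_odd n with ⟨j, rfl⟩ | ⟨j, rfl⟩
      · left; rw [← two_mul, zpow_mul, zpow_two, hιι, one_zpow]
      · right; rw [zpow_add, zpow_one, zpow_mul, zpow_two, hιι, one_zpow, one_mul]
    show (ι ^ n).hom ≫ _ = _
    rcases hz with h | h
    · rw [h]; exact Category.id_comp _
    · rw [h]; exact hinvι
  haveI : Finite (Subgroup.zpowers ι) := by
    haveI : Finite ({1, ι} : Set (Aut C)) := Set.Finite.to_subtype (by simp)
    refine Finite.of_injective (fun g : Subgroup.zpowers ι => (⟨g.1, ?_⟩ : ({1, ι} : Set (Aut C))))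
      fun a b h => Subtype.ext (congrArg (fun z : ({1, ι} : Set (Aut C)) => z.1) h)
    obtain ⟨g, n, rfl⟩ := g
    rcases Int.even_or_odd n with ⟨j, rfl⟩ | ⟨j, rfl⟩
    · exact Or.inl (show ι ^ (j + j) = 1 by rw [← two_mul, zpow_mul, zpow_two, hιι, one_zpow])
    · exact Or.inr (show ι ^ (2 * j + 1) = ι by rw [zpow_add, zpow_one, zpow_mul, zpow_two, hιι, one_zpow, one_mul])
  obtain ⟨j, hj, -⟩ := IsQuot25.desc_unique hq (HypSq10.gr σ hσp ≫ π) hinv
  haveI := hS.dbl.affine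
  haveI := HypSq10.isClosedImmersion_gr (k := k) σ hσp
  refine ⟨j, hj, (IsQuot25.isAffineHom_iff hq j).1 (hj ▸ inferInstance), ?_⟩
  refine IsQuot25.hom_ext hq ?_
  rw [← Category.assoc, hj, Category.assoc, hS.hk, HypSq10.gr_over σ hσp, hκ]

variable {N : (HypSq10.Sq (k := k) C).Modules} (hN : PicF.IsInvertible N)
  (hNinv : ClSub.IsInverseOf N (ClSub.idealMod (HypSq10.gr σ hσp).ker))
include hN hNinv

/-- Invariant classes positive on the graph keep `H¹ = 0` one step further. -/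
theorem van_one_step (c : PicLoc.PicSet S) (c₀ : PicLoc.PicSet (HypSq10.Sq (k := k) C))
    (hc : pc π c = c₀ * PicGrp.cls N hN) (h0 : Van 1 c₀) (hpos : 0 ≤ deg k (pc (HypSq10.gr σ hσp) (pc π c))) :
    Van 1 c := by
  haveI := hS.dbl.affine
  haveI := hS.proper
  haveI := CurveCartier25.smoothOfRelativeDimension_one (C ↘ Spec (CommRingCat.of k)) hdim
  haveI := HypSq10.isClosedImmersion_gr (k := k) σ hσp
  letI : (CohB1.ProjSpace 1 k).Over (Spec (CommRingCat.of k)) := ⟨CohB1.ProjSpace.toSpec 1 k⟩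
  haveI : IsNoetherian (CohB1.ProjSpace 1 k) :=
    haveI : IsProper ((CohB1.ProjSpace 1 k) ↘ Spec (CommRingCat.of k)) := ProjSpace.isProper_toSpec 1 k
    CohFound.isNoetherian_of_isProper ((CohB1.ProjSpace 1 k) ↘ Spec (CommRingCat.of k))
  obtain ⟨j, hj, hja, hjk⟩ := exists_line hdim κ hκ hκ2 hg σ hσ hσ1 hσp hσσ h2 hS
  haveI := hja
  obtain ⟨T, ⟨sp⟩, ⟨e1⟩, -, ⟨e2⟩⟩ := exists_split (eff_diag hS hdim) (fix_diag hS) c
  obtain ⟨R, hR, ⟨r1⟩, ⟨r2⟩, ⟨r3⟩⟩ :=
    HypSq10.exists_ses (k := k) (HypSq10.gr σ hσp) (HypSq10.isEffCartierIdeal_gr (k := k) σ hσp) hN hNinv c₀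
  rw [← hc] at r2 r3
  haveI := hR.epi_g
  haveI := hR.mono_f
  have q1 : Coh.IsQCoh R.X₁ := M1.isQCoh_of_isIso r1.symm (Twist.isQCoh_of_isInvertible (rep_inv _))
  have q2 : Coh.IsQCoh R.X₂ := M1.isQCoh_of_isIso r2.symm (Twist.isQCoh_of_isInvertible (rep_inv _))
  have q3 : Coh.IsQCoh R.X₃ := M1.isQCoh_of_isIso r3.symm
    (M1.isQCoh_push _ (Twist.isQCoh_of_isInvertible (rep_inv _)))
  let P := R.map (Scheme.Modules.pushforward π)
  have hP : P.ShortExact :=
    { exact := hR.exact.map_of_mono_of_preservesKernel (Scheme.Modules.pushforward π) hR.mono_f inferInstance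
      mono_f := inferInstanceAs (Mono ((Scheme.Modules.pushforward π).map R.f))
      epi_g := DirImg11.epi_pushforward_map q2 q3 R.g }
  haveI h1 : Subsingleton (Coh.HH S P.X₁ 1) := by
    haveI : Subsingleton (Coh.HH (HypSq10.Sq (k := k) C) (rep c₀) 1) := h0
    obtain ⟨p⟩ := AmpleFin18.nonempty_HH_push (k := k) π hS.hk R.X₁ q1 1
    exact (p.trans (hequiv k r1 1)).toEquiv.subsingleton
  have hinj : ∀ y, hmap k P.g 1 y = 0 → y = 0 := fun y hy => by
    obtain ⟨z, rfl⟩ := (CurveCoh17.exact_hmap_hmap k hP 1 y).1 hy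
    rw [Subsingleton.elim z 0, map_zero]
  let F := (Scheme.Modules.pushforward (HypSq10.gr σ hσp)).obj (rep (pc (HypSq10.gr σ hσp) (pc π c)))
  let L' := (Scheme.Modules.pushforward κ).obj (rep (pc (HypSq10.gr σ hσp) (pc π c)))
  let w : (Scheme.Modules.pushforward π).obj R.X₃ ≅ (Scheme.Modules.pushforward j).obj L' :=
    (Scheme.Modules.pushforward π).mapIso r3 ≪≫
      (Scheme.Modules.pushforwardComp (HypSq10.gr σ hσp) π).app _ ≪≫
        (Scheme.Modules.pushforwardCongr hj.symm).app _ ≪≫ ((Scheme.Modules.pushforwardComp κ j).app _).symm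
  let u : rep c ⟶ (Scheme.Modules.pushforward π).obj R.X₂ :=
    e1.inv ≫ T.f ≫ e2.hom ≫ (Scheme.Modules.pushforward π).map r2.inv
  let φ : rep c ⟶ (Scheme.Modules.pushforward j).obj L' := u ≫ P.g ≫ w.hom
  let adj := Scheme.Modules.pullbackPushforwardAdjunction j
  have hφ : φ = adj.unit.app (rep c) ≫ (Scheme.Modules.pushforward j).map ((adj.homEquiv _ _).symm φ) :=
    ((adj.homEquiv _ _).apply_symm_apply φ).symm.trans (adj.homEquiv_unit _ _ _)
  have hvan : Subsingleton (Coh.HH S ((Scheme.Modules.pushforward j).obj ((Scheme.Modules.pullback j).obj (rep c))) 1) := by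
    have hv : Van 1 (pc j c) := van_one_P1 hdim κ hκ hκ2 _ (by rw [pc_comp _ _ hj, ← pc_comp _ _ rfl]; exact hpos)
    have hi : PicF.IsInvertible ((Scheme.Modules.pullback j).obj (rep c)) := PicLoc.isInvertible_pullback j (rep_inv c)
    haveI : Subsingleton (Coh.HH (CohB1.ProjSpace 1 k) ((Scheme.Modules.pullback j).obj (rep c)) 1) := by
      refine HypSq10.subsingleton_of_van (k := k) hi ?_
      convert hv using 1
      conv_rhs => rw [← cls_rep c]
      exact (PicGrp.pullHom_cls _ _ _ _).symm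
    obtain ⟨p⟩ := AmpleFin18.nonempty_HH_push (k := k) j hjk _ (Twist.isQCoh_of_isInvertible hi) 1
    exact p.toEquiv.subsingleton
  refine subsingleton_of_forall_eq 0 fun x => ?_
  have hz : hmap k φ 1 x = 0 := by
    have h9 : hmap k (adj.unit.app (rep c)) 1 x = 0 := @Subsingleton.elim _ hvan _ _
    rw [hφ, hmap_comp]
    erw [h9]
    exact map_zero _
  simp only [φ, hmap_comp] at hz
  have hy := hinj _ ((hequiv k w 1).injective (hz.trans (map_zero _).symm))
  have hrec : u ≫ (Scheme.Modules.pushforward π).map r2.hom ≫ e2.inv ≫ sp.r ≫ e1.hom = 𝟙 _ := by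
    simp only [u, Category.assoc]
    rw [← (Scheme.Modules.pushforward π).map_comp_assoc, r2.inv_hom_id, CategoryTheory.Functor.map_id, Category.id_comp,
      e2.hom_inv_id_assoc, sp.f_r_assoc, e1.inv_hom_id]
  rw [← hmap_id k (rep c) 1 x, ← hrec, hmap_comp, hy, map_zero]

end Groth.Agent.SymSq10

end
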